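import Mathlib
import Cfsg.Agent.Lib.Lead.Extraspecial2Model

set_option linter.style.longLine false
set_option linter.unusedVariables false
set_option linter.unusedSectionVars false

/-!
The model extraspecial 2-group attached to a matrix `A` over `ZMod 2`: the set `(ι → ZMod 2) × ZMod 2`
with the product `(v, c) (w, d) = (v + w, c + d + vᵀ A w)`. When `A + Aᵀ` is invertible this is an
extraspecial group (`ES`), the squaring map is the quadratic form `v ↦ vᵀ A v`.
-/

open scoped commutatorElement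
open Matrix

namespace Cfsg.Agent.Lib.Helper5.ESOut

open Cfsg.Agent.Lead.ES2 (ES NN)
open Cfsg.Agent.S2880 (Ctx)

variable {ι : Type} [Fintype ι] [DecidableEq ι]

/-- the bilinear form of a matrix -/
def bl (A : Matrix ι ι (ZMod 2)) (v w : ι → ZMod 2) : ZMod 2 := v ⬝ᵥ A *ᵥ w

theorem bl_add_left (A : Matrix ι ι (ZMod 2)) (u v w : ι → ZMod 2) :
    bl A (u + v) w = bl A u w + bl A v w := by simp [bl, add_dotProduct]

theorem bl_add_right (A : Matrix ι ι (ZMod 2)) (u v w : ι → ZMod 2) :
    bl A u (v + w) = bl A u v + bl A u w := by simp [bl, mulVec_add, dotProduct_add]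

@[simp] theorem bl_zero_left (A : Matrix ι ι (ZMod 2)) (w : ι → ZMod 2) : bl A 0 w = 0 := by
  simp [bl]

@[simp] theorem bl_zero_right (A : Matrix ι ι (ZMod 2)) (v : ι → ZMod 2) : bl A v 0 = 0 := by
  simp [bl]

theorem bl_transpose (A : Matrix ι ι (ZMod 2)) (v w : ι → ZMod 2) : bl Aᵀ v w = bl A w v := by
  unfold bl
  rw [dotProduct_mulVec, vecMul_transpose, dotProduct_comm]

theorem bl_add_mat (A B : Matrix ι ι (ZMod 2)) (v w : ι → ZMod 2) :
    bl (A + B) v w = bl A v w + bl B v w := by simp [bl, add_mulVec, dotProduct_add]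

theorem bl_sub_mat (A B : Matrix ι ι (ZMod 2)) (v w : ι → ZMod 2) :
    bl (A - B) v w = bl A v w - bl B v w := by simp [bl, sub_mulVec, dotProduct_sub]

theorem bl_mulVec (A M : Matrix ι ι (ZMod 2)) (v w : ι → ZMod 2) :
    bl A (M *ᵥ v) (M *ᵥ w) = bl (Mᵀ * A * M) v w := by
  unfold bl
  rw [← mulVec_mulVec, ← mulVec_mulVec, dotProduct_mulVec v, vecMul_transpose]

theorem bl_single (A : Matrix ι ι (ZMod 2)) (i j : ι) :
    bl A (Pi.single i 1) (Pi.single j 1) = A i j := by
  simp [bl]

theorem z2_add_self (a : ZMod 2) : a + a = 0 := CharTwo.add_self_eq_zero a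

theorem vec_add_self (v : ι → ZMod 2) : v + v = 0 := by
  funext i; exact CharTwo.add_self_eq_zero (v i)

theorem z2_cases (t : ZMod 2) : t = 0 ∨ t = 1 := by
  revert t; decide

/-- the model group: underlying type -/
@[ext] structure Mod (A : Matrix ι ι (ZMod 2)) where
  v : ι → ZMod 2
  c : ZMod 2

namespace Mod

variable {A : Matrix ι ι (ZMod 2)}

instance : Mul (Mod A) := ⟨fun p q => ⟨p.v + q.v, p.c + q.c + bl A p.v q.v⟩⟩
instance : One (Mod A) := ⟨⟨0, 0⟩⟩
instance : Inv (Mod A) := ⟨fun p => ⟨p.v, p.c + bl A p.v p.v⟩⟩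

@[simp] theorem mul_v (p q : Mod A) : (p * q).v = p.v + q.v := rfl
@[simp] theorem mul_c (p q : Mod A) : (p * q).c = p.c + q.c + bl A p.v q.v := rfl
@[simp] theorem one_v : (1 : Mod A).v = 0 := rfl
@[simp] theorem one_c : (1 : Mod A).c = 0 := rfl
@[simp] theorem inv_v (p : Mod A) : (p⁻¹).v = p.v := rfl
@[simp] theorem inv_c (p : Mod A) : (p⁻¹).c = p.c + bl A p.v p.v := rfl

instance instGroup : Group (Mod A) where
  mul_assoc p q r := by
    ext
    · simp only [mul_v, add_assoc]
    · simp only [mul_c, mul_v, bl_add_left, bl_add_right]; ring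
  one_mul p := by ext <;> simp
  mul_one p := by ext <;> simp
  inv_mul_cancel p := by
    ext
    · simp only [mul_v, inv_v, one_v, vec_add_self]
    · simp only [mul_c, inv_c, inv_v, one_c]
      have : ∀ a b : ZMod 2, a + b + a + b = 0 := by decide
      exact this _ _

/-- central elements -/
def zc (A : Matrix ι ι (ZMod 2)) (t : ZMod 2) : Mod A := ⟨0, t⟩

/-- the standard lifts -/
def lift (A : Matrix ι ι (ZMod 2)) (v : ι → ZMod 2) : Mod A := ⟨v, 0⟩

@[simp] theorem zc_v (t : ZMod 2) : (zc A t).v = 0 := rfl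
@[simp] theorem zc_c (t : ZMod 2) : (zc A t).c = t := rfl
@[simp] theorem lift_v (v : ι → ZMod 2) : (lift A v).v = v := rfl
@[simp] theorem lift_c (v : ι → ZMod 2) : (lift A v).c = 0 := rfl

theorem zc_zero : zc A 0 = 1 := rfl

theorem eq_lift_mul_zc (p : Mod A) : p = lift A p.v * zc A p.c := by
  ext <;> simp

theorem zc_cases (t : ZMod 2) : zc A t = 1 ∨ zc A t = zc A 1 := by
  rcases z2_cases t with rfl | rfl
  · left; rfl
  · right; rfl

theorem sq_eq (p : Mod A) : p * p = zc A (bl A p.v p.v) := by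
  refine Mod.ext ?_ ?_
  · simp [vec_add_self]
  · simp [z2_add_self]

theorem mul_comm_form (p q : Mod A) :
    p * q = zc A (bl A p.v q.v + bl A q.v p.v) * (q * p) := by
  ext
  · simp [add_comm]
  · simp only [mul_c, zc_c, mul_v, zc_v, bl_zero_left, add_zero]
    have : ∀ a b c d : ZMod 2, a + b + c = c + d + (b + a + d) := by decide
    exact this _ _ _ _

theorem comm_eq (p q : Mod A) : ⁅p, q⁆ = zc A (bl A p.v q.v + bl A q.v p.v) := by
  rw [commutatorElement_def]
  have h : p * q * p⁻¹ * q⁻¹ = (p * q) * (q * p)⁻¹ := by group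
  rw [h, mul_comm_form p q]; group

theorem zc_one_ne : zc A 1 ≠ 1 := by
  intro h
  have := congrArg Mod.c h
  simp at this

theorem ctx (A : Matrix ι ι (ZMod 2)) : Ctx (zc A 1) where
  ne := zc_one_ne
  sq := by ext <;> simp [z2_add_self]
  cen x := by ext <;> simp [add_comm]
  comm x y := by rw [comm_eq]; exact zc_cases _
  sqr x := by rw [sq_eq]; exact zc_cases _

theorem bl_swap (A : Matrix ι ι (ZMod 2)) (v w : ι → ZMod 2) :
    bl A v w + bl A w v = bl (A + Aᵀ) v w := by
  rw [bl_add_mat, bl_transpose]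

theorem eq_zero_of_bl (B : Matrix ι ι (ZMod 2)) (hB : IsUnit B) (w : ι → ZMod 2)
    (h : ∀ v, bl B v w = 0) : w = 0 := by
  have h1 : B *ᵥ w = 0 := by
    funext i
    have := h (Pi.single i 1)
    simpa [bl] using this
  have hinj := (Matrix.mulVec_injective_iff_isUnit).2 hB
  exact hinj (by rw [h1, mulVec_zero])

theorem es (hA : IsUnit (A + Aᵀ)) : ES (zc A 1) where
  ctx := ctx A
  cent w hw := by
    have hv : w.v = 0 := by
      apply eq_zero_of_bl _ hA
      intro v
      rw [← bl_swap]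
      have := congrArg Mod.c (hw (lift A v))
      simp only [mul_c, lift_c, lift_v, zero_add, add_zero] at this
      have key : ∀ a b c : ZMod 2, c + a = c + b → a + b = 0 := by decide
      exact key _ _ _ this
    rcases z2_cases w.c with hc | hc
    · left; ext <;> simp [hv, hc]
    · right; ext <;> simp [hv, hc]

/-- underlying equivalence with a product -/
def equivProd (A : Matrix ι ι (ZMod 2)) : Mod A ≃ (ι → ZMod 2) × ZMod 2 where
  toFun p := (p.v, p.c)
  invFun x := ⟨x.1, x.2⟩
  left_inv p := rfl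
  right_inv x := rfl

instance : Finite (Mod A) := Finite.of_equiv _ (equivProd A).symm

theorem card_eq (A : Matrix ι ι (ZMod 2)) : Nat.card (Mod A) = 2 ^ (Fintype.card ι + 1) := by
  rw [Nat.card_congr (equivProd A), Nat.card_prod, Nat.card_eq_fintype_card,
    Nat.card_eq_fintype_card, Fintype.card_fun, ZMod.card, pow_succ]

theorem NN_eq (A : Matrix ι ι (ZMod 2)) :
    NN (Mod A) = 2 * Nat.card {v : ι → ZMod 2 // bl A v v = 0} := by
  have e : {p : Mod A // p * p = 1} ≃ ZMod 2 × {v : ι → ZMod 2 // bl A v v = 0} :=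
    { toFun := fun p => (p.1.c, ⟨p.1.v, by
        have := congrArg Mod.c p.2
        rw [sq_eq] at this
        simpa using this⟩)
      invFun := fun x => ⟨⟨x.2.1, x.1⟩, by rw [sq_eq]; simp only [x.2.2]; rfl⟩
      left_inv := fun p => rfl
      right_inv := fun x => rfl }
  rw [NN, Nat.card_congr e, Nat.card_prod, Nat.card_eq_fintype_card (α := ZMod 2), ZMod.card]

theorem not_abelian [Nonempty ι] (hA : IsUnit (A + Aᵀ)) : ¬ ∀ x y : Mod A, ⁅x, y⁆ = 1 := by
  intro h
  obtain ⟨i⟩ := ‹Nonempty ι›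
  have hc : ∀ x : Mod A, x * lift A (Pi.single i 1) = lift A (Pi.single i 1) * x := fun x =>
    commutatorElement_eq_one_iff_mul_comm.mp (h x _)
  rcases (es hA).cent _ hc with h1 | h1
  · have := congrFun (congrArg Mod.v h1) i
    simp at this
  · have := congrFun (congrArg Mod.v h1) i
    simp at this

theorem extraspecial [Nonempty ι] (hA : IsUnit (A + Aᵀ)) : Cfsg.IsExtraspecial 2 (Mod A) :=
  Cfsg.Agent.Lead.ES2.extraspecial_of_ES (es hA) (not_abelian hA)

end Mod

end Cfsg.Agent.Lib.Helper5.ESOut
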