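import Mathlib
import Cfsg.Prelude.Def_KGroupFacts
import Cfsg.Prelude.Def_Classical
import Cfsg.Agent.Lib.Helper5.ESOut.Model
import Cfsg.Agent.Lib.Helper5.Orth.QBasic

set_option linter.style.longLine false
set_option linter.unusedVariables false
set_option linter.unusedSectionVars false

/-!
Automorphisms of the model group `Mod A`: the induced action on `ι → ZMod 2` gives a surjective
homomorphism onto the isometry group of `v ↦ vᵀ A v` whose kernel is the group of inner
automorphisms.
-/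

open scoped commutatorElement
open Matrix

namespace Cfsg.Agent.Lib.Helper5.ESOut

open Cfsg.Agent.Lead.ES2 (ES NN)
open Cfsg.Agent.S2880 (Ctx)
open Cfsg.Agent.Lib.Helper5.Orth (mem_iso_iff gl_ext' gl_inv_mulVec_mulVec)

variable {ι : Type} [Fintype ι] [DecidableEq ι] {A : Matrix ι ι (ZMod 2)}

namespace Mod

theorem map_zc (hA : IsUnit (A + Aᵀ)) (φ : Mod A ≃* Mod A) (t : ZMod 2) : φ (zc A t) = zc A t := by
  rcases z2_cases t with rfl | rfl
  · rw [zc_zero, map_one]
  · have hc : ∀ x : Mod A, x * φ (zc A 1) = φ (zc A 1) * x := by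
      intro x
      have h := (ctx A).cen (φ.symm x)
      have := congrArg φ h
      simpa using this
    rcases (es hA).cent _ hc with h1 | h1
    · exfalso
      apply zc_one_ne (A := A)
      apply φ.injective
      rw [h1, map_one]
    · exact h1

/-- the linear part of an automorphism -/
def gfun (φ : Mod A ≃* Mod A) (v : ι → ZMod 2) : ι → ZMod 2 := (φ (lift A v)).v

/-- the quadratic part of an automorphism -/
def ffun (φ : Mod A ≃* Mod A) (v : ι → ZMod 2) : ZMod 2 := (φ (lift A v)).c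

theorem phi_apply (hA : IsUnit (A + Aᵀ)) (φ : Mod A ≃* Mod A) (p : Mod A) :
    φ p = ⟨gfun φ p.v, ffun φ p.v + p.c⟩ := by
  conv_lhs => rw [eq_lift_mul_zc p, map_mul, map_zc hA]
  refine Mod.ext ?_ ?_
  · simp [gfun]
  · simp [ffun]

theorem lift_mul_lift (v w : ι → ZMod 2) : lift A v * lift A w = ⟨v + w, bl A v w⟩ := by
  refine Mod.ext ?_ ?_ <;> simp

theorem gfun_add (hA : IsUnit (A + Aᵀ)) (φ : Mod A ≃* Mod A) (v w : ι → ZMod 2) :
    gfun φ (v + w) = gfun φ v + gfun φ w := by
  have h := map_mul φ (lift A v) (lift A w)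
  rw [lift_mul_lift, phi_apply hA φ ⟨v + w, bl A v w⟩] at h
  have := congrArg Mod.v h
  simpa [gfun] using this

theorem ffun_add (hA : IsUnit (A + Aᵀ)) (φ : Mod A ≃* Mod A) (v w : ι → ZMod 2) :
    ffun φ (v + w) + bl A v w = ffun φ v + ffun φ w + bl A (gfun φ v) (gfun φ w) := by
  have h := map_mul φ (lift A v) (lift A w)
  rw [lift_mul_lift, phi_apply hA φ ⟨v + w, bl A v w⟩] at h
  have := congrArg Mod.c h
  simpa [gfun, ffun] using this

theorem ffun_zero (φ : Mod A ≃* Mod A) : ffun φ 0 = 0 := by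
  have : lift A 0 = 1 := rfl
  simp [ffun, this]

theorem gfun_Q (hA : IsUnit (A + Aᵀ)) (φ : Mod A ≃* Mod A) (v : ι → ZMod 2) :
    bl A (gfun φ v) (gfun φ v) = bl A v v := by
  have h := ffun_add hA φ v v
  rw [vec_add_self, ffun_zero, z2_add_self, zero_add, zero_add] at h
  exact h.symm

/-- the linear part as a linear map -/
def glin (hA : IsUnit (A + Aᵀ)) (φ : Mod A ≃* Mod A) : (ι → ZMod 2) →ₗ[ZMod 2] (ι → ZMod 2) :=
  (AddMonoidHom.mk' (gfun φ) (gfun_add hA φ)).toZModLinearMap 2

theorem glin_apply (hA : IsUnit (A + Aᵀ)) (φ : Mod A ≃* Mod A) (v : ι → ZMod 2) :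
    glin hA φ v = gfun φ v := rfl

/-- the action on the quotient, in matrix form -/
def matHom (hA : IsUnit (A + Aᵀ)) : MulAut (Mod A) →* Matrix ι ι (ZMod 2) where
  toFun φ := LinearMap.toMatrix' (glin hA φ)
  map_one' := by
    have : glin hA (1 : MulAut (Mod A)) = LinearMap.id := by
      apply LinearMap.ext; intro v
      rw [glin_apply]; rfl
    rw [this, LinearMap.toMatrix'_id]
  map_mul' φ ψ := by
    have : glin hA (φ * ψ) = (glin hA φ).comp (glin hA ψ) := by
      apply LinearMap.ext; intro v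
      rw [LinearMap.comp_apply, glin_apply, glin_apply, glin_apply]
      change (φ (ψ (lift A v))).v = _
      rw [phi_apply hA φ (ψ (lift A v))]
      rfl
    rw [this, LinearMap.toMatrix'_comp]

theorem matHom_mulVec (hA : IsUnit (A + Aᵀ)) (φ : MulAut (Mod A)) (v : ι → ZMod 2) :
    matHom hA φ *ᵥ v = gfun φ v := by
  change LinearMap.toMatrix' (glin hA φ) *ᵥ v = _
  rw [LinearMap.toMatrix'_mulVec, glin_apply]

/-- the action on the quotient as a homomorphism to the general linear group -/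
def glHom (hA : IsUnit (A + Aᵀ)) : MulAut (Mod A) →* GL ι (ZMod 2) := (matHom hA).toHomUnits

theorem glHom_mulVec (hA : IsUnit (A + Aᵀ)) (φ : MulAut (Mod A)) (v : ι → ZMod 2) :
    ((glHom hA φ : GL ι (ZMod 2)) : Matrix ι ι (ZMod 2)) *ᵥ v = gfun φ v :=
  matHom_mulVec hA φ v

theorem glHom_mem (hA : IsUnit (A + Aᵀ)) (φ : MulAut (Mod A)) :
    glHom hA φ ∈ Cfsg.isometryGroup (ZMod 2) (fun v => bl A v v) := by
  rw [mem_iso_iff]
  intro v
  rw [glHom_mulVec]
  exact gfun_Q hA φ v

/-- the homomorphism to the isometry group -/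
def theta (hA : IsUnit (A + Aᵀ)) :
    MulAut (Mod A) →* Cfsg.isometryGroup (ZMod 2) (fun v => bl A v v) :=
  (glHom hA).codRestrict _ (glHom_mem hA)

theorem theta_eq_one_iff (hA : IsUnit (A + Aᵀ)) (φ : MulAut (Mod A)) :
    theta hA φ = 1 ↔ ∀ v, gfun φ v = v := by
  constructor
  · intro h v
    have h1 : glHom hA φ = 1 := by
      have := congrArg Subtype.val h
      simpa [theta] using this
    rw [← glHom_mulVec hA φ v, h1]
    simp
  · intro h
    apply Subtype.ext
    change glHom hA φ = 1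
    apply gl_ext'
    intro v
    rw [glHom_mulVec, h]
    simp

end Mod

end Cfsg.Agent.Lib.Helper5.ESOut
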