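import Mathlib
import Cfsg.Agent.Lib.Helper5.ESOut.Aut

set_option linter.style.longLine false
set_option linter.unusedVariables false
set_option linter.unusedSectionVars false

/-!
`Out (Mod A)` is the isometry group of the quadratic form `v ↦ vᵀ A v`; transport of `Out` along
group isomorphisms.
-/

open scoped commutatorElement
open Matrix

namespace Cfsg.Agent.Lib.Helper5.ESOut

open Cfsg.Agent.Lead.ES2 (ES NN)
open Cfsg.Agent.S2880 (Ctx)
open Cfsg.Agent.Lib.Helper5.Orth (mem_iso_iff gl_ext' gl_inv_mulVec_mulVec)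

variable {ι : Type} [Fintype ι] [DecidableEq ι] {A : Matrix ι ι (ZMod 2)}

namespace Mod

theorem conj_gfun (q : Mod A) (v : ι → ZMod 2) :
    gfun (MulAut.conj q : Mod A ≃* Mod A) v = v := by
  change (q * lift A v * q⁻¹).v = v
  simp only [mul_v, inv_v, lift_v]
  rw [add_comm q.v v, add_assoc, vec_add_self, add_zero]

theorem exists_conj_of_gfun (hA : IsUnit (A + Aᵀ)) (φ : Mod A ≃* Mod A)
    (h : ∀ v, gfun φ v = v) : ∃ q : Mod A, (MulAut.conj q : Mod A ≃* Mod A) = φ := by
  have hadd : ∀ v w, ffun φ (v + w) = ffun φ v + ffun φ w := by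
    intro v w
    have := ffun_add hA φ v w
    rw [h v, h w] at this
    exact add_right_cancel this
  let fl : (ι → ZMod 2) →ₗ[ZMod 2] ZMod 2 := (AddMonoidHom.mk' (ffun φ) hadd).toZModLinearMap 2
  have hfl : ∀ v, fl v = ffun φ v := fun v => rfl
  let u : ι → ZMod 2 := fun i => fl (fun j => if i = j then 1 else 0)
  have hfu : ∀ v, ffun φ v = v ⬝ᵥ u := by
    intro v
    rw [← hfl, LinearMap.pi_apply_eq_sum_univ fl v]
    simp only [dotProduct, smul_eq_mul, u]
  obtain ⟨w₀, hw₀⟩ : ∃ w₀, (A + Aᵀ) *ᵥ w₀ = u := by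
    obtain ⟨B, hB⟩ := hA
    refine ⟨((B⁻¹ : (Matrix ι ι (ZMod 2))ˣ) : Matrix ι ι (ZMod 2)) *ᵥ u, ?_⟩
    rw [← hB, mulVec_mulVec, Units.mul_inv, one_mulVec]
  refine ⟨lift A w₀, ?_⟩
  apply MulEquiv.ext
  intro p
  rw [phi_apply hA φ p, h, MulAut.conj_apply]
  refine Mod.ext ?_ ?_
  · simp only [mul_v, inv_v, lift_v]
    rw [add_comm w₀ p.v, add_assoc, vec_add_self, add_zero]
  · simp only [mul_c, mul_v, inv_c, inv_v, lift_c, lift_v]
    rw [hfu, ← hw₀]
    change _ = bl (A + Aᵀ) p.v w₀ + p.c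
    rw [← bl_swap, bl_add_left]
    have key : ∀ a b c d : ZMod 2, 0 + a + b + (0 + c) + (c + d) = d + b + a := by decide
    exact key _ _ _ _

theorem exists_quad (G : Matrix ι ι (ZMod 2)) (hG : ∀ v, bl G v v = 0) :
    ∃ f : (ι → ZMod 2) → ZMod 2, ∀ v w, f (v + w) = f v + f w + bl G v w := by
  classical
  let e := Fintype.equivFin ι
  let U : Matrix ι ι (ZMod 2) := Matrix.of fun i j => if e i < e j then G i j else 0
  have hdiag : ∀ i, G i i = 0 := fun i => by rw [← bl_single G i i]; exact hG _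
  have hsymm : ∀ i j, G i j = G j i := by
    intro i j
    have h := hG (Pi.single i 1 + Pi.single j 1)
    rw [bl_add_left, bl_add_right, bl_add_right, hG, hG, bl_single, bl_single] at h
    have key : ∀ a b : ZMod 2, 0 + a + (b + 0) = 0 → a = b := by decide
    exact key _ _ h
  have hGU : G = U + Uᵀ := by
    ext i j
    simp only [Matrix.add_apply, Matrix.transpose_apply, U, Matrix.of_apply]
    rcases lt_trichotomy (e i) (e j) with h | h | h
    · rw [if_pos h, if_neg (not_lt.2 h.le), add_zero]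
    · have : i = j := e.injective h
      subst this
      simp [hdiag]
    · rw [if_neg (not_lt.2 h.le), if_pos h, zero_add, hsymm]
  refine ⟨fun v => bl U v v, fun v w => ?_⟩
  change bl U (v + w) (v + w) = bl U v v + bl U w w + bl G v w
  rw [hGU, bl_add_mat, bl_transpose, bl_add_left, bl_add_right, bl_add_right]
  ring

theorem exists_aut (hA : IsUnit (A + Aᵀ)) (M : GL ι (ZMod 2))
    (hM : M ∈ Cfsg.isometryGroup (ZMod 2) (fun v => bl A v v)) :
    ∃ φ : MulAut (Mod A), glHom hA φ = M := by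
  rw [mem_iso_iff] at hM
  obtain ⟨f, hf⟩ := exists_quad ((M : Matrix ι ι (ZMod 2))ᵀ * A * (M : Matrix ι ι (ZMod 2)) - A)
    (fun v => by rw [bl_sub_mat, ← bl_mulVec, hM v, sub_self])
  have hf0 : f 0 = 0 := by
    have := hf 0 0
    simp only [add_zero, bl_zero_left] at this
    have key : ∀ a : ZMod 2, a = a + a → a = 0 := by decide
    exact key _ this
  let φ₀ : Mod A →* Mod A :=
    { toFun := fun p => ⟨(M : Matrix ι ι (ZMod 2)) *ᵥ p.v, p.c + f p.v⟩
      map_one' := by refine Mod.ext ?_ ?_ <;> simp [hf0]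
      map_mul' := fun p q => by
        refine Mod.ext ?_ ?_
        · simp [mulVec_add]
        · simp only [mul_c, mul_v]
          rw [hf, bl_sub_mat, ← bl_mulVec]
          ring }
  have hφ₀ : ∀ p, φ₀ p = ⟨(M : Matrix ι ι (ZMod 2)) *ᵥ p.v, p.c + f p.v⟩ := fun p => rfl
  have hinj : Function.Injective φ₀ := by
    intro p q hpq
    rw [hφ₀, hφ₀] at hpq
    have h1 : (M : Matrix ι ι (ZMod 2)) *ᵥ p.v = (M : Matrix ι ι (ZMod 2)) *ᵥ q.v :=
      congrArg Mod.v hpq
    have h2 : p.c + f p.v = q.c + f q.v := congrArg Mod.c hpq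
    have h3 : p.v = q.v := by
      rw [← gl_inv_mulVec_mulVec M p.v, h1, gl_inv_mulVec_mulVec]
    refine Mod.ext h3 ?_
    rw [h3] at h2; exact add_right_cancel h2
  let φ : MulAut (Mod A) := MulEquiv.ofBijective φ₀ ⟨hinj, Finite.injective_iff_surjective.1 hinj⟩
  refine ⟨φ, ?_⟩
  apply gl_ext'
  intro v
  rw [glHom_mulVec]
  rfl

theorem inn_eq_ker (hA : IsUnit (A + Aᵀ)) : Cfsg.Inn (Mod A) = (theta hA).ker := by
  ext φ
  rw [MonoidHom.mem_ker, theta_eq_one_iff]
  constructor
  · rintro ⟨q, rfl⟩ v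
    exact conj_gfun q v
  · intro h
    obtain ⟨q, hq⟩ := exists_conj_of_gfun hA φ h
    exact ⟨q, hq⟩

theorem theta_surjective (hA : IsUnit (A + Aᵀ)) : Function.Surjective (theta hA) := by
  rintro ⟨M, hM⟩
  obtain ⟨φ, hφ⟩ := exists_aut hA M hM
  exact ⟨φ, Subtype.ext hφ⟩

/-- the outer automorphism group of the model group is the isometry group of the squaring form -/
noncomputable def outEquiv (hA : IsUnit (A + Aᵀ)) :
    Cfsg.Out (Mod A) ≃* Cfsg.isometryGroup (ZMod 2) (fun v => bl A v v) :=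
  (QuotientGroup.quotientMulEquivOfEq (inn_eq_ker hA)).trans
    (QuotientGroup.quotientKerEquivOfSurjective (theta hA) (theta_surjective hA))

end Mod

/-- transport of the outer automorphism group along an isomorphism -/
noncomputable def outCongr {E : Type*} {E' : Type*} [Group E] [Group E'] (e : E ≃* E') :
    Cfsg.Out E ≃* Cfsg.Out E' :=
  QuotientGroup.congr (Cfsg.Inn E) (Cfsg.Inn E') (MulAut.congr e) (by
    ext φ
    constructor
    · rintro ⟨_, ⟨g, rfl⟩, rfl⟩
      refine ⟨e g, ?_⟩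
      apply MulEquiv.ext
      intro x
      simp [MulAut.congr]
    · rintro ⟨g, rfl⟩
      refine ⟨MulAut.conj (e.symm g), ⟨_, rfl⟩, ?_⟩
      apply MulEquiv.ext
      intro x
      simp [MulAut.congr])

theorem isUnit_of_mul_self (B : Matrix ι ι (ZMod 2)) (h : B * B = 1) : IsUnit B :=
  ⟨⟨B, B, h, h⟩, rfl⟩

end Cfsg.Agent.Lib.Helper5.ESOut
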