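import Mathlib
import Cfsg.Agent.Lib.Helper5.ESOut.Main

set_option linter.style.longLine false
set_option linter.unusedVariables false
set_option linter.unusedSectionVars false

/-!
An obstruction to the splitting of `Aut (Mod A)` over `Inn (Mod A)`: two commuting involutory
automorphisms satisfy an identity in terms of the commutator form, which fails for suitable
commuting involutory isometries.
-/

open scoped commutatorElement
open Matrix

namespace Cfsg.Agent.Lib.Helper5.ESOut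

open Cfsg.Agent.Lib.Helper5.Orth (mem_iso_iff gl_ext' gl_inv_mulVec_mulVec gl_mul_mulVec)

variable {ι : Type} [Fintype ι] [DecidableEq ι] {A : Matrix ι ι (ZMod 2)}

theorem z2_stepA (t5 t7 t8 m6 m7 : ZMod 2) (h4 : t5 + m6 = t7 + t8 + m7) (h5 : t8 + t7 = 0) :
    t5 = m6 + m7 := by
  revert t5 t7 t8 m6 m7; decide

theorem z2_stepC (t3 t1 t5 m1 m3 : ZMod 2) (h : t3 + m1 = t1 + t5 + (m1 + m3)) :
    t3 = t1 + t5 + m3 := by
  revert t3 t1 t5 m1 m3; decide

theorem z2_stepE (t1 t2 t5 t6 m3 m5 : ZMod 2)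
    (h : t1 + t5 + m3 + t2 = t2 + t6 + m5 + t1) : m5 + m3 + t5 + t6 = 0 := by
  revert t1 t2 t5 t6 m3 m5; decide

namespace Mod

theorem gfun_gfun_of_sq (hA : IsUnit (A + Aᵀ)) (φ : MulAut (Mod A)) (h : φ * φ = 1)
    (v : ι → ZMod 2) : gfun φ (gfun φ v) = v := by
  have h1 : φ (φ (lift A v)) = lift A v := by
    have := congrArg (fun ψ : MulAut (Mod A) => ψ (lift A v)) h
    simpa using this
  rw [phi_apply hA φ (lift A v), phi_apply hA φ] at h1
  exact congrArg Mod.v h1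

theorem ffun_gfun_of_sq (hA : IsUnit (A + Aᵀ)) (φ : MulAut (Mod A)) (h : φ * φ = 1)
    (v : ι → ZMod 2) : ffun φ (gfun φ v) + ffun φ v = 0 := by
  have h1 : φ (φ (lift A v)) = lift A v := by
    have := congrArg (fun ψ : MulAut (Mod A) => ψ (lift A v)) h
    simpa using this
  rw [phi_apply hA φ (lift A v), phi_apply hA φ] at h1
  have := congrArg Mod.c h1
  simpa using this

theorem ffun_comm (hA : IsUnit (A + Aᵀ)) (φ ψ : MulAut (Mod A)) (h : φ * ψ = ψ * φ)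
    (v : ι → ZMod 2) :
    ffun φ (gfun ψ v) + ffun ψ v = ffun ψ (gfun φ v) + ffun φ v := by
  have h1 : φ (ψ (lift A v)) = ψ (φ (lift A v)) := by
    have := congrArg (fun χ : MulAut (Mod A) => χ (lift A v)) h
    simpa using this
  rw [phi_apply hA ψ (lift A v), phi_apply hA φ, phi_apply hA φ (lift A v), phi_apply hA ψ] at h1
  have := congrArg Mod.c h1
  simpa using this

/-- the value of the quadratic part on `u + a u` -/
theorem ffun_add_gfun (hA : IsUnit (A + Aᵀ)) (φ : MulAut (Mod A)) (h : φ * φ = 1)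
    (u : ι → ZMod 2) : ffun φ (u + gfun φ u) = bl (A + Aᵀ) u (gfun φ u) := by
  have h4 := ffun_add hA φ u (gfun φ u)
  rw [gfun_gfun_of_sq hA φ h] at h4
  have h5 := ffun_gfun_of_sq hA φ h u
  rw [← bl_swap]
  exact z2_stepA _ _ _ _ _ h4 h5

theorem obstruction (hA : IsUnit (A + Aᵀ)) (φa φb : MulAut (Mod A)) (ha : φa * φa = 1)
    (hb : φb * φb = 1) (hab : φa * φb = φb * φa) (v₀ u₁ u₂ : ι → ZMod 2)
    (h1 : gfun φb v₀ = v₀ + (u₁ + gfun φa u₁)) (h2 : gfun φa v₀ = v₀ + (u₂ + gfun φb u₂)) :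
    bl (A + Aᵀ) (u₁ + gfun φa u₁) (u₂ + gfun φb u₂) + bl (A + Aᵀ) u₁ (gfun φa u₁)
      + bl (A + Aᵀ) u₂ (gfun φb u₂) = 0 := by
  set x := u₁ + gfun φa u₁ with hx
  set y := u₂ + gfun φb u₂ with hy
  have hax : gfun φa x = x := by
    rw [hx, gfun_add hA, gfun_gfun_of_sq hA φa ha, add_comm]
  have hby : gfun φb y = y := by
    rw [hy, gfun_add hA, gfun_gfun_of_sq hA φb hb, add_comm]
  have hfx : ffun φa x = bl (A + Aᵀ) u₁ (gfun φa u₁) := ffun_add_gfun hA φa ha u₁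
  have hfy : ffun φb y = bl (A + Aᵀ) u₂ (gfun φb u₂) := ffun_add_gfun hA φb hb u₂
  have hC := ffun_comm hA φa φb hab v₀
  rw [h1, h2] at hC
  have hPa := ffun_add hA φa v₀ x
  rw [hax, h2, bl_add_left] at hPa
  have hPb := ffun_add hA φb v₀ y
  rw [hby, h1, bl_add_left] at hPb
  have e3 := z2_stepC _ _ _ _ _ hPa
  have e4 := z2_stepC _ _ _ _ _ hPb
  rw [e3, e4] at hC
  have e5 := z2_stepE _ _ _ _ _ _ hC
  rw [← hfx, ← hfy, ← bl_swap A x y]
  rw [← e5]

end Mod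

theorem congr_conj {E : Type*} {E' : Type*} [Group E] [Group E'] (e : E ≃* E') (x : E) :
    MulAut.congr e (MulAut.conj x) = MulAut.conj (e x) := by
  apply MulEquiv.ext
  intro y
  simp [MulAut.congr]

/-- the homomorphism from `Aut E` to the isometry group, for `E` isomorphic to the model -/
noncomputable def thetaE (hA : IsUnit (A + Aᵀ)) {E : Type*} [Group E] (e : E ≃* Mod A) :
    MulAut E →* Cfsg.isometryGroup (ZMod 2) (fun v => bl A v v) :=
  (Mod.theta hA).comp (MulAut.congr e).toMonoidHom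

theorem thetaE_apply (hA : IsUnit (A + Aᵀ)) {E : Type*} [Group E] (e : E ≃* Mod A)
    (φ : MulAut E) : thetaE hA e φ = Mod.theta hA (MulAut.congr e φ) := rfl

theorem thetaE_surjective (hA : IsUnit (A + Aᵀ)) {E : Type*} [Group E] (e : E ≃* Mod A) :
    Function.Surjective (thetaE hA e) := by
  intro g
  obtain ⟨ψ, hψ⟩ := Mod.theta_surjective hA g
  refine ⟨(MulAut.congr e).symm ψ, ?_⟩
  rw [thetaE_apply, MulEquiv.apply_symm_apply, hψ]

theorem thetaE_ker (hA : IsUnit (A + Aᵀ)) {E : Type*} [Group E] (e : E ≃* Mod A) :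
    (thetaE hA e).ker = Cfsg.Inn E := by
  ext φ
  rw [MonoidHom.mem_ker, thetaE_apply, ← MonoidHom.mem_ker, ← Mod.inn_eq_ker]
  constructor
  · rintro ⟨m, hm⟩
    refine ⟨e.symm m, ?_⟩
    apply (MulAut.congr e).injective
    rw [congr_conj, MulEquiv.apply_symm_apply]
    exact hm
  · rintro ⟨x, rfl⟩
    exact ⟨e x, (congr_conj e x).symm⟩

theorem thetaE_inj_on (hA : IsUnit (A + Aᵀ)) {E : Type*} [Group E] (e : E ≃* Mod A)
    (L : Subgroup (MulAut E)) (hL : (Cfsg.Inn E).IsComplement' L) (x y : MulAut E)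
    (hx : x ∈ L) (hy : y ∈ L) (h : thetaE hA e x = thetaE hA e y) : x = y := by
  have h1 : x * y⁻¹ ∈ (thetaE hA e).ker := by
    rw [MonoidHom.mem_ker, map_mul, map_inv, h, mul_inv_cancel]
  rw [thetaE_ker] at h1
  have h2 : x * y⁻¹ ∈ L := L.mul_mem hx (L.inv_mem hy)
  have h3 : x * y⁻¹ ∈ Cfsg.Inn E ⊓ L := ⟨h1, h2⟩
  rw [hL.disjoint.eq_bot, Subgroup.mem_bot] at h3
  exact mul_inv_eq_one.mp h3

theorem exists_mem_of_complement (hA : IsUnit (A + Aᵀ)) {E : Type*} [Group E] (e : E ≃* Mod A)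
    (L : Subgroup (MulAut E)) (hL : (Cfsg.Inn E).IsComplement' L)
    (g : Cfsg.isometryGroup (ZMod 2) (fun v => bl A v v)) :
    ∃ l ∈ L, thetaE hA e l = g := by
  obtain ⟨ψ, hψ⟩ := thetaE_surjective hA e g
  obtain ⟨⟨i, l⟩, hil⟩ := hL.2 ψ
  refine ⟨l.1, l.2, ?_⟩
  have hi : thetaE hA e i.1 = 1 := by
    rw [← MonoidHom.mem_ker, thetaE_ker]; exact i.2
  have hil' : i.1 * l.1 = ψ := hil
  have : thetaE hA e (i.1 * l.1) = g := by rw [hil', hψ]
  rw [map_mul, hi, one_mul] at this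
  exact this

/-- the splitting obstruction -/
theorem no_complement (hA : IsUnit (A + Aᵀ)) {E : Type*} [Group E] (e : E ≃* Mod A)
    (L : Subgroup (MulAut E)) (hL : (Cfsg.Inn E).IsComplement' L)
    (ga gb : Cfsg.isometryGroup (ZMod 2) (fun v => bl A v v))
    (ha : ga * ga = 1) (hb : gb * gb = 1) (hab : ga * gb = gb * ga)
    (v₀ u₁ u₂ : ι → ZMod 2)
    (h1 : (gb.1 : Matrix ι ι (ZMod 2)) *ᵥ v₀ = v₀ + (u₁ + (ga.1 : Matrix ι ι (ZMod 2)) *ᵥ u₁))
    (h2 : (ga.1 : Matrix ι ι (ZMod 2)) *ᵥ v₀ = v₀ + (u₂ + (gb.1 : Matrix ι ι (ZMod 2)) *ᵥ u₂))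
    (hob : bl (A + Aᵀ) (u₁ + (ga.1 : Matrix ι ι (ZMod 2)) *ᵥ u₁)
        (u₂ + (gb.1 : Matrix ι ι (ZMod 2)) *ᵥ u₂)
      + bl (A + Aᵀ) u₁ ((ga.1 : Matrix ι ι (ZMod 2)) *ᵥ u₁)
      + bl (A + Aᵀ) u₂ ((gb.1 : Matrix ι ι (ZMod 2)) *ᵥ u₂) = 1) : False := by
  obtain ⟨la, hla, hθa⟩ := exists_mem_of_complement hA e L hL ga
  obtain ⟨lb, hlb, hθb⟩ := exists_mem_of_complement hA e L hL gb
  have hla2 : la * la = 1 := by
    apply thetaE_inj_on hA e L hL _ _ (L.mul_mem hla hla) L.one_mem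
    rw [map_mul, hθa, ha, map_one]
  have hlb2 : lb * lb = 1 := by
    apply thetaE_inj_on hA e L hL _ _ (L.mul_mem hlb hlb) L.one_mem
    rw [map_mul, hθb, hb, map_one]
  have hlab : la * lb = lb * la := by
    apply thetaE_inj_on hA e L hL _ _ (L.mul_mem hla hlb) (L.mul_mem hlb hla)
    rw [map_mul, map_mul, hθa, hθb, hab]
  set φa : MulAut (Mod A) := MulAut.congr e la with hφa
  set φb : MulAut (Mod A) := MulAut.congr e lb with hφb
  have hφa2 : φa * φa = 1 := by rw [hφa, ← map_mul, hla2, map_one]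
  have hφb2 : φb * φb = 1 := by rw [hφb, ← map_mul, hlb2, map_one]
  have hφab : φa * φb = φb * φa := by rw [hφa, hφb, ← map_mul, ← map_mul, hlab]
  have hga : ∀ v, Mod.gfun φa v = (ga.1 : Matrix ι ι (ZMod 2)) *ᵥ v := by
    intro v
    rw [← hθa, thetaE_apply]
    exact (Mod.glHom_mulVec hA φa v).symm
  have hgb : ∀ v, Mod.gfun φb v = (gb.1 : Matrix ι ι (ZMod 2)) *ᵥ v := by
    intro v
    rw [← hθb, thetaE_apply]
    exact (Mod.glHom_mulVec hA φb v).symm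
  have := Mod.obstruction hA φa φb hφa2 hφb2 hφab v₀ u₁ u₂
    (by rw [hgb, hga, h1]) (by rw [hga, hgb, h2])
  rw [hga, hgb, hob] at this
  exact one_ne_zero this

end Cfsg.Agent.Lib.Helper5.ESOut
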