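import Mathlib
import Cfsg.Agent.Lib.Helper5.ESOut.Split

set_option linter.style.longLine false
set_option linter.unusedVariables false
set_option linter.unusedSectionVars false

/-!
Reflections in the isometry group of `v ↦ vᵀ A v`, and a configuration of vectors that prevents
`Aut` from splitting over `Inn`.
-/

open scoped commutatorElement
open Matrix

namespace Cfsg.Agent.Lib.Helper5.ESOut

open Cfsg.Agent.Lib.Helper5.Orth (mem_iso_iff gl_ext' gl_inv_mulVec_mulVec gl_mul_mulVec)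

variable {ι : Type} [Fintype ι] [DecidableEq ι]

/-- the symmetric (commutator) form -/
def Bf (A : Matrix ι ι (ZMod 2)) (v w : ι → ZMod 2) : ZMod 2 := bl (A + Aᵀ) v w

variable {A : Matrix ι ι (ZMod 2)}

theorem Bf_eq (v w : ι → ZMod 2) : Bf A v w = bl A v w + bl A w v := (Mod.bl_swap A v w).symm

theorem Bf_comm (v w : ι → ZMod 2) : Bf A v w = Bf A w v := by
  rw [Bf_eq, Bf_eq, add_comm]

theorem Bf_self (v : ι → ZMod 2) : Bf A v v = 0 := by
  rw [Bf_eq, z2_add_self]

theorem Bf_add_left (u v w : ι → ZMod 2) : Bf A (u + v) w = Bf A u w + Bf A v w :=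
  bl_add_left _ u v w

theorem Bf_add_right (u v w : ι → ZMod 2) : Bf A u (v + w) = Bf A u v + Bf A u w :=
  bl_add_right _ u v w

theorem bl_smul_left (M : Matrix ι ι (ZMod 2)) (c : ZMod 2) (v w : ι → ZMod 2) :
    bl M (c • v) w = c * bl M v w := by simp [bl]

theorem bl_smul_right (M : Matrix ι ι (ZMod 2)) (c : ZMod 2) (v w : ι → ZMod 2) :
    bl M v (c • w) = c * bl M v w := by simp [bl, mulVec_smul]

theorem Bf_smul_left (c : ZMod 2) (v w : ι → ZMod 2) : Bf A (c • v) w = c * Bf A v w :=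
  bl_smul_left _ c v w

/-- reflection (orthogonal transvection) as a function -/
def rf (A : Matrix ι ι (ZMod 2)) (u v : ι → ZMod 2) : ι → ZMod 2 := v + Bf A v u • u

theorem rf_rf (u v : ι → ZMod 2) : rf A u (rf A u v) = v := by
  unfold rf
  rw [Bf_add_left, Bf_smul_left, Bf_self, mul_zero, add_zero, add_assoc, ← add_smul,
    z2_add_self, zero_smul, add_zero]

theorem rf_Q (u : ι → ZMod 2) (hu : bl A u u = 1) (v : ι → ZMod 2) :
    bl A (rf A u v) (rf A u v) = bl A v v := by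
  unfold rf
  rw [bl_add_left, bl_add_right, bl_add_right, bl_smul_left, bl_smul_left, bl_smul_right,
    bl_smul_right, hu, Bf_eq]
  have key : ∀ a b c : ZMod 2, a + (b + c) * b + ((b + c) * c + (b + c) * ((b + c) * 1)) = a := by
    decide
  exact key _ _ _

/-- reflection as a linear map -/
def rfLin (A : Matrix ι ι (ZMod 2)) (u : ι → ZMod 2) : (ι → ZMod 2) →ₗ[ZMod 2] (ι → ZMod 2) where
  toFun := rf A u
  map_add' v w := by
    unfold rf
    rw [Bf_add_left, add_smul]; abel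
  map_smul' c v := by
    unfold rf
    simp only [RingHom.id_apply]
    rw [Bf_smul_left, smul_add, smul_smul]

theorem rfLin_apply (u v : ι → ZMod 2) : rfLin A u v = rf A u v := rfl

/-- reflection as an element of the general linear group -/
def rfGL (A : Matrix ι ι (ZMod 2)) (u : ι → ZMod 2) : GL ι (ZMod 2) where
  val := LinearMap.toMatrix' (rfLin A u)
  inv := LinearMap.toMatrix' (rfLin A u)
  val_inv := by
    rw [← LinearMap.toMatrix'_comp]
    have : (rfLin A u).comp (rfLin A u) = LinearMap.id := by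
      apply LinearMap.ext; intro v
      simp [rfLin_apply, rf_rf]
    rw [this, LinearMap.toMatrix'_id]
  inv_val := by
    rw [← LinearMap.toMatrix'_comp]
    have : (rfLin A u).comp (rfLin A u) = LinearMap.id := by
      apply LinearMap.ext; intro v
      simp [rfLin_apply, rf_rf]
    rw [this, LinearMap.toMatrix'_id]

theorem rfGL_mulVec (u v : ι → ZMod 2) :
    ((rfGL A u : GL ι (ZMod 2)) : Matrix ι ι (ZMod 2)) *ᵥ v = rf A u v := by
  change LinearMap.toMatrix' (rfLin A u) *ᵥ v = _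
  rw [LinearMap.toMatrix'_mulVec, rfLin_apply]

theorem rfGL_mem (u : ι → ZMod 2) (hu : bl A u u = 1) :
    rfGL A u ∈ Cfsg.isometryGroup (ZMod 2) (fun v => bl A v v) := by
  rw [mem_iso_iff]
  intro v
  rw [rfGL_mulVec]
  exact rf_Q u hu v

/-- reflection in the isometry group -/
def rfO (A : Matrix ι ι (ZMod 2)) (u : ι → ZMod 2) (hu : bl A u u = 1) :
    Cfsg.isometryGroup (ZMod 2) (fun v => bl A v v) := ⟨rfGL A u, rfGL_mem u hu⟩

theorem iso_ext (g h : Cfsg.isometryGroup (ZMod 2) (fun v => bl A v v))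
    (H : ∀ v, (g.1 : Matrix ι ι (ZMod 2)) *ᵥ v = (h.1 : Matrix ι ι (ZMod 2)) *ᵥ v) : g = h :=
  Subtype.ext (gl_ext' _ _ H)

theorem iso_mul_mulVec (g h : Cfsg.isometryGroup (ZMod 2) (fun v => bl A v v)) (v : ι → ZMod 2) :
    ((g * h).1 : Matrix ι ι (ZMod 2)) *ᵥ v =
      (g.1 : Matrix ι ι (ZMod 2)) *ᵥ ((h.1 : Matrix ι ι (ZMod 2)) *ᵥ v) :=
  gl_mul_mulVec g.1 h.1 v

theorem rfO_mulVec (u : ι → ZMod 2) (hu : bl A u u = 1) (v : ι → ZMod 2) :
    ((rfO A u hu).1 : Matrix ι ι (ZMod 2)) *ᵥ v = rf A u v := rfGL_mulVec u v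

theorem rfO_sq (u : ι → ZMod 2) (hu : bl A u u = 1) : rfO A u hu * rfO A u hu = 1 := by
  apply iso_ext
  intro v
  rw [iso_mul_mulVec, rfO_mulVec, rfO_mulVec, rf_rf]
  simp

theorem rfO_pow_two (u : ι → ZMod 2) (hu : bl A u u = 1) : rfO A u hu ^ 2 = 1 := by
  rw [pow_two, rfO_sq]

theorem rfO_commute (u w : ι → ZMod 2) (hu : bl A u u = 1) (hw : bl A w w = 1)
    (h : Bf A u w = 0) : Commute (rfO A u hu) (rfO A w hw) := by
  apply iso_ext
  intro v
  rw [iso_mul_mulVec, iso_mul_mulVec, rfO_mulVec, rfO_mulVec, rfO_mulVec, rfO_mulVec]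
  unfold rf
  have h' : Bf A w u = 0 := by rw [Bf_comm, h]
  simp only [Bf_add_left, Bf_smul_left, h, h', mul_zero, add_zero]
  abel

end Cfsg.Agent.Lib.Helper5.ESOut
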