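import Mathlib
import Cfsg.Agent.Lib.Helper5.ESOut.Refl

set_option linter.style.longLine false
set_option linter.unusedVariables false
set_option linter.unusedSectionVars false

/-!
A configuration of six vectors (three pairwise orthogonal nonsingular vectors with nonsingular sum
and three vectors dual to them) prevents `Aut E` from splitting over `Inn E`.
-/

open scoped commutatorElement
open Matrix

namespace Cfsg.Agent.Lib.Helper5.ESOut

variable {ι : Type} [Fintype ι] [DecidableEq ι] {A : Matrix ι ι (ZMod 2)}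

theorem rf_of_one {u v : ι → ZMod 2} (h : Bf A v u = 1) : rf A u v = v + u := by
  unfold rf; rw [h, one_smul]

theorem rf_of_zero {u v : ι → ZMod 2} (h : Bf A v u = 0) : rf A u v = v := by
  unfold rf; rw [h, zero_smul, add_zero]

theorem no_complement_config (hA : IsUnit (A + Aᵀ)) {E : Type*} [Group E] (e : E ≃* Mod A)
    (L : Subgroup (MulAut E)) (hL : (Cfsg.Inn E).IsComplement' L)
    (e1 e2 e3 p q s : ι → ZMod 2)
    (hQp : bl A p p = 1) (hQq : bl A q q = 1) (hQs : bl A s s = 1)
    (hQt : bl A (p + q + s) (p + q + s) = 1)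
    (hpq : Bf A p q = 0) (hps : Bf A p s = 0) (hqs : Bf A q s = 0)
    (h1p : Bf A e1 p = 1) (h1q : Bf A e1 q = 0) (h1s : Bf A e1 s = 0)
    (h2p : Bf A e2 p = 0) (h2q : Bf A e2 q = 1) (h2s : Bf A e2 s = 0)
    (h3p : Bf A e3 p = 0) (h3q : Bf A e3 q = 0) (h3s : Bf A e3 s = 1) : False := by
  have hqp : Bf A q p = 0 := by rw [Bf_comm, hpq]
  have hsp : Bf A s p = 0 := by rw [Bf_comm, hps]
  have hsq : Bf A s q = 0 := by rw [Bf_comm, hqs]
  have hpt : Bf A p (p + q + s) = 0 := by
    rw [Bf_add_right, Bf_add_right, Bf_self, hpq, hps]; decide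
  have hqt : Bf A q (p + q + s) = 0 := by
    rw [Bf_add_right, Bf_add_right, Bf_self, hqp, hqs]; decide
  have hst : Bf A s (p + q + s) = 0 := by
    rw [Bf_add_right, Bf_add_right, Bf_self, hsp, hsq]; decide
  have htq : Bf A (p + q + s) q = 0 := by rw [Bf_comm, hqt]
  have hts : Bf A (p + q + s) s = 0 := by rw [Bf_comm, hst]
  have h1t : Bf A e1 (p + q + s) = 1 := by
    rw [Bf_add_right, Bf_add_right, h1p, h1q, h1s]; decide
  have h2t : Bf A e2 (p + q + s) = 1 := by
    rw [Bf_add_right, Bf_add_right, h2p, h2q, h2s]; decide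
  have h3t : Bf A e3 (p + q + s) = 1 := by
    rw [Bf_add_right, Bf_add_right, h3p, h3q, h3s]; decide
  have cpq := rfO_commute p q hQp hQq hpq
  have cps := rfO_commute p s hQp hQs hps
  have cpt := rfO_commute p (p + q + s) hQp hQt hpt
  have cqs := rfO_commute q s hQq hQs hqs
  have cqt := rfO_commute q (p + q + s) hQq hQt hqt
  have cst := rfO_commute s (p + q + s) hQs hQt hst
  set rp := rfO A p hQp with hrp
  set rq := rfO A q hQq with hrq
  set rs := rfO A s hQs with hrs
  set rt := rfO A (p + q + s) hQt with hrt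
  have sp : rp ^ 2 = 1 := rfO_pow_two p hQp
  have sq : rq ^ 2 = 1 := rfO_pow_two q hQq
  have ss : rs ^ 2 = 1 := rfO_pow_two s hQs
  have st : rt ^ 2 = 1 := rfO_pow_two _ hQt
  have ha : (rp * rq) * (rp * rq) = 1 := by
    rw [← pow_two, cpq.mul_pow, sp, sq, one_mul]
  have hb : (rq * rs * rt) * (rq * rs * rt) = 1 := by
    rw [← pow_two, (cqt.mul_left cst).mul_pow, cqs.mul_pow, sq, ss, st, one_mul, one_mul]
  have hab : (rp * rq) * (rq * rs * rt) = (rq * rs * rt) * (rp * rq) := by
    have c1 : Commute rp (rq * rs * rt) := (cpq.mul_right cps).mul_right cpt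
    have c2 : Commute rq (rq * rs * rt) := ((Commute.refl rq).mul_right cqs).mul_right cqt
    exact c1.mul_left c2
  have ga_apply : ∀ v, ((rp * rq).1 : Matrix ι ι (ZMod 2)) *ᵥ v = rf A p (rf A q v) := by
    intro v
    rw [iso_mul_mulVec, hrp, hrq, rfO_mulVec, rfO_mulVec]
  have gb_apply : ∀ v, ((rq * rs * rt).1 : Matrix ι ι (ZMod 2)) *ᵥ v =
      rf A q (rf A s (rf A (p + q + s) v)) := by
    intro v
    rw [iso_mul_mulVec, iso_mul_mulVec, hrq, hrs, hrt, rfO_mulVec, rfO_mulVec, rfO_mulVec]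
  -- the four values
  have v1 : rf A p (rf A q e2) = e2 + q := by
    have a1 : rf A q e2 = e2 + q := rf_of_one h2q
    have a2 : rf A p (e2 + q) = e2 + q :=
      rf_of_zero (by rw [Bf_add_left, h2p, hqp]; decide)
    rw [a1, a2]
  have v2 : rf A q (rf A s (rf A (p + q + s) e3)) = e3 + (p + q + s) + s := by
    have a1 : rf A (p + q + s) e3 = e3 + (p + q + s) := rf_of_one h3t
    have a2 : rf A s (e3 + (p + q + s)) = e3 + (p + q + s) + s :=
      rf_of_one (by rw [Bf_add_left, h3s, hts]; decide)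
    have a3 : rf A q (e3 + (p + q + s) + s) = e3 + (p + q + s) + s :=
      rf_of_zero (by rw [Bf_add_left, Bf_add_left, h3q, htq, hsq]; decide)
    rw [a1, a2, a3]
  have v3 : rf A p (rf A q (e1 + e2)) = e1 + e2 + q + p := by
    have a1 : rf A q (e1 + e2) = e1 + e2 + q :=
      rf_of_one (by rw [Bf_add_left, h1q, h2q]; decide)
    have a2 : rf A p (e1 + e2 + q) = e1 + e2 + q + p :=
      rf_of_one (by rw [Bf_add_left, Bf_add_left, h1p, h2p, hqp]; decide)
    rw [a1, a2]
  have v4 : rf A q (rf A s (rf A (p + q + s) (e1 + e2))) = e1 + e2 + q := by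
    have a1 : rf A (p + q + s) (e1 + e2) = e1 + e2 :=
      rf_of_zero (by rw [Bf_add_left, h1t, h2t]; decide)
    have a2 : rf A s (e1 + e2) = e1 + e2 :=
      rf_of_zero (by rw [Bf_add_left, h1s, h2s]; decide)
    have a3 : rf A q (e1 + e2) = e1 + e2 + q :=
      rf_of_one (by rw [Bf_add_left, h1q, h2q]; decide)
    rw [a1, a2, a3]
  have w1 : e2 + (e2 + q) = q := by rw [← add_assoc, vec_add_self, zero_add]
  have w2 : e3 + (e3 + (p + q + s) + s) = p + q := by
    funext i
    simp only [Pi.add_apply]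
    have key : ∀ a b c d : ZMod 2, a + (a + (b + c + d) + d) = b + c := by decide
    exact key _ _ _ _
  apply no_complement hA e L hL (rp * rq) (rq * rs * rt) ha hb hab (e1 + e2) e2 e3
  · rw [gb_apply, ga_apply, v4, v1, w1]
  · rw [ga_apply, gb_apply, v3, v2, w2]
    funext i
    simp only [Pi.add_apply]
    have key : ∀ a b c d : ZMod 2, a + b + c + d = a + b + (d + c) := by decide
    exact key _ _ _ _
  · rw [ga_apply, gb_apply, v1, v2, w1, w2]
    change Bf A q (p + q) + Bf A e2 (e2 + q) + Bf A e3 (e3 + (p + q + s) + s) = 1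
    rw [Bf_add_right, Bf_add_right, Bf_add_right, Bf_add_right, hqp, Bf_self, Bf_self, h2q, Bf_self,
      h3t, h3s]
    decide

end Cfsg.Agent.Lib.Helper5.ESOut
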