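import Mathlib
import Cfsg.Agent.Lib.Helper5.ESOut.Main

set_option linter.style.longLine false
set_option linter.unusedVariables false
set_option linter.unusedSectionVars false

/-!
The matrices giving the standard plus and minus quadratic forms over `ZMod 2`.
-/

open scoped commutatorElement
open Matrix

namespace Cfsg.Agent.Lib.Helper5.ESOut

/-- matrix of the bilinear form `Σ v_i w_{i'}` -/
def Aplus (n : ℕ) : Matrix (Fin n ⊕ Fin n) (Fin n ⊕ Fin n) (ZMod 2) := fromBlocks 0 1 0 0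

theorem bl_Aplus (n : ℕ) (v w : Fin n ⊕ Fin n → ZMod 2) :
    bl (Aplus n) v w = ∑ i, v (Sum.inl i) * w (Sum.inr i) := by
  simp [bl, Aplus, Matrix.fromBlocks_mulVec, dotProduct, Fintype.sum_sum_type]

theorem Q_Aplus (n : ℕ) : (fun v => bl (Aplus n) v v) = Cfsg.quadFormPlus n (ZMod 2) := by
  funext v
  rw [bl_Aplus]
  rfl

theorem isUnit_Aplus (n : ℕ) : IsUnit (Aplus n + (Aplus n)ᵀ) := by
  apply isUnit_of_mul_self
  simp [Aplus, Matrix.fromBlocks_transpose, Matrix.fromBlocks_add, Matrix.fromBlocks_multiply,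
    Matrix.fromBlocks_one]

/-- matrix of the bilinear form of the minus form -/
def Aminus (m : ℕ) : Matrix ((Fin m ⊕ Fin m) ⊕ Fin 2) ((Fin m ⊕ Fin m) ⊕ Fin 2) (ZMod 2) :=
  fromBlocks (Aplus m) 0 0 !![1, 1; 0, 1]

theorem bl_Aminus (m : ℕ) (v w : (Fin m ⊕ Fin m) ⊕ Fin 2 → ZMod 2) :
    bl (Aminus m) v w = (∑ i, v (Sum.inl (Sum.inl i)) * w (Sum.inl (Sum.inr i))) +
      (v (Sum.inr 0) * w (Sum.inr 0) + v (Sum.inr 0) * w (Sum.inr 1) +
        v (Sum.inr 1) * w (Sum.inr 1)) := by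
  have h := bl_Aplus m (v ∘ Sum.inl) (w ∘ Sum.inl)
  simp only [bl, Function.comp] at h
  simp only [bl, Aminus, Matrix.fromBlocks_mulVec, Matrix.zero_mulVec, add_zero, zero_add]
  rw [dotProduct, Fintype.sum_sum_type]
  simp only [Sum.elim_inl, Sum.elim_inr]
  have h' : ∑ a₂, v (Sum.inr a₂) * ((!![1, 1; 0, 1] : Matrix (Fin 2) (Fin 2) (ZMod 2)) *ᵥ w ∘ Sum.inr) a₂ =
      v (Sum.inr 0) * w (Sum.inr 0) + v (Sum.inr 0) * w (Sum.inr 1) +
        v (Sum.inr 1) * w (Sum.inr 1) := by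
    simp [Fin.sum_univ_two, Matrix.mulVec, dotProduct]
    ring
  rw [h']
  congr 1

theorem Q_Aminus (m : ℕ) :
    (fun v => bl (Aminus m) v v) = Cfsg.quadFormMinus m (ZMod 2) 1 1 := by
  funext v
  rw [bl_Aminus]
  unfold Cfsg.quadFormMinus
  ring

theorem isUnit_Aminus (m : ℕ) : IsUnit (Aminus m + (Aminus m)ᵀ) := by
  apply isUnit_of_mul_self
  have h2 : (!![1, 1; 0, 1] + !![1, 1; 0, 1]ᵀ : Matrix (Fin 2) (Fin 2) (ZMod 2)) *
      (!![1, 1; 0, 1] + !![1, 1; 0, 1]ᵀ) = 1 := by decide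
  have h1 : (Aplus m + (Aplus m)ᵀ) * (Aplus m + (Aplus m)ᵀ) = 1 := by
    simp [Aplus, Matrix.fromBlocks_transpose, Matrix.fromBlocks_add, Matrix.fromBlocks_multiply,
      Matrix.fromBlocks_one]
  unfold Aminus
  rw [Matrix.fromBlocks_transpose, Matrix.fromBlocks_add, Matrix.fromBlocks_multiply]
  simp only [Matrix.transpose_zero, add_zero, Matrix.mul_zero, Matrix.zero_mul, zero_add]
  rw [h1, h2, Matrix.fromBlocks_one]

end Cfsg.Agent.Lib.Helper5.ESOut
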