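import Mathlib
import Cfsg.Agent.Lib.Helper5.ESOut.Forms
import Cfsg.Agent.Lib.Lead.Extraspecial2Rank
import Cfsg.Agent.S0289
import Cfsg.Agent.S0290

set_option linter.style.longLine false
set_option linter.unusedVariables false
set_option linter.unusedSectionVars false

/-!
The model groups of plus and minus type: orders, numbers of involutions, and the resulting
identification of any extraspecial 2-group with a model group.
-/

open scoped commutatorElement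
open Matrix

namespace Cfsg.Agent.Lib.Helper5.ESOut

open Cfsg.Agent.Lead.ES2 (ES NN)

theorem card_plus (n : ℕ) : Nat.card (Mod (Aplus n)) = 2 ^ (2 * n + 1) := by
  rw [Mod.card_eq, Fintype.card_sum, Fintype.card_fin]
  congr 1; ring

theorem card_minus (n : ℕ) (hn : 1 ≤ n) : Nat.card (Mod (Aminus (n - 1))) = 2 ^ (2 * n + 1) := by
  rw [Mod.card_eq, Fintype.card_sum, Fintype.card_sum, Fintype.card_fin, Fintype.card_fin]
  congr 1; omega

theorem NN_plus (n : ℕ) (hn : 1 ≤ n) : NN (Mod (Aplus n)) = 2 ^ (2 * n) + 2 ^ n := by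
  rw [Mod.NN_eq]
  have h := Cfsg.Agent.S0289.result (F := ZMod 2) (ZMod.card 2) n hn
  have e : {v : Fin n ⊕ Fin n → ZMod 2 // bl (Aplus n) v v = 0} ≃
      {v : Fin n ⊕ Fin n → ZMod 2 // Cfsg.quadFormPlus n (ZMod 2) v = 0} :=
    Equiv.subtypeEquivRight (fun v => by rw [← congrFun (Q_Aplus n) v])
  rw [Nat.card_congr e, h]
  obtain ⟨k, rfl⟩ : ∃ k, n = k + 1 := ⟨n - 1, by omega⟩
  have e1 : 2 ^ (2 * (k + 1) - 1) = 2 * (2 ^ k * 2 ^ k) := by
    rw [show 2 * (k + 1) - 1 = 1 + (k + k) by omega, pow_add, pow_add, pow_one]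
  have e2 : 2 ^ (k + 1) = 2 * 2 ^ k := by rw [pow_succ]; ring
  have e3 : 2 ^ (2 * (k + 1)) = 4 * (2 ^ k * 2 ^ k) := by
    rw [show 2 * (k + 1) = 2 + (k + k) by omega, pow_add, pow_add]; norm_num
  rw [e1, e2, e3, Nat.add_sub_cancel]
  generalize 2 ^ k * 2 ^ k = b
  generalize 2 ^ k = a
  omega

theorem NN_minus (n : ℕ) (hn : 1 ≤ n) :
    NN (Mod (Aminus (n - 1))) + 2 ^ n = 2 ^ (2 * n) := by
  rw [Mod.NN_eq]
  have h := Cfsg.Agent.S0290.result (F := ZMod 2) (ZMod.card 2) n hn 1 1 (by decide)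
  have e : {v : (Fin (n - 1) ⊕ Fin (n - 1)) ⊕ Fin 2 → ZMod 2 // bl (Aminus (n - 1)) v v = 0} ≃
      {v : (Fin (n - 1) ⊕ Fin (n - 1)) ⊕ Fin 2 → ZMod 2 //
        Cfsg.quadFormMinus (n - 1) (ZMod 2) 1 1 v = 0} :=
    Equiv.subtypeEquivRight (fun v => by rw [← congrFun (Q_Aminus (n - 1)) v])
  rw [Nat.card_congr e, h]
  obtain ⟨k, rfl⟩ : ∃ k, n = k + 1 := ⟨n - 1, by omega⟩
  have e1 : 2 ^ (2 * (k + 1) - 1) = 2 * (2 ^ k * 2 ^ k) := by
    rw [show 2 * (k + 1) - 1 = 1 + (k + k) by omega, pow_add, pow_add, pow_one]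
  have e2 : 2 ^ (k + 1) = 2 * 2 ^ k := by rw [pow_succ]; ring
  have e3 : 2 ^ (2 * (k + 1)) = 4 * (2 ^ k * 2 ^ k) := by
    rw [show 2 * (k + 1) = 2 + (k + k) by omega, pow_add, pow_add]; norm_num
  have e4 : 2 ^ k ≤ 2 ^ k * 2 ^ k := Nat.le_mul_of_pos_left _ (by positivity)
  rw [e1, e2, e3, Nat.add_sub_cancel]
  generalize 2 ^ k * 2 ^ k = b at *
  generalize 2 ^ k = a at *
  omega

/-- isometry groups of equal forms -/
noncomputable def isoCongr {ι : Type} [Fintype ι] [DecidableEq ι] {Q Q' : (ι → ZMod 2) → ZMod 2}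
    (h : Q = Q') : Cfsg.isometryGroup (ZMod 2) Q ≃* Cfsg.isometryGroup (ZMod 2) Q' :=
  MulEquiv.subgroupCongr (by rw [h])

/-- an extraspecial group of plus type is isomorphic to the plus model -/
theorem exists_iso_plus {E : Type*} [Group E] [Finite E] (hE : Cfsg.IsExtraspecial 2 E) (n : ℕ)
    (hn : 1 ≤ n) (hcard : Nat.card E = 2 ^ (2 * n + 1))
    (h : ∃ A : Subgroup E, Cfsg.IsElementaryAbelian 2 A ∧ Nat.card ↥A = 2 ^ (n + 1)) :
    Nonempty (E ≃* Mod (Aplus n)) := by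
  obtain ⟨A, hA, hAc⟩ := h
  have hNN := Cfsg.Agent.Lead.ES2.plus_of_big_EA hE n hn hcard A hA hAc
  haveI : Nonempty (Fin n ⊕ Fin n) := ⟨Sum.inl ⟨0, by omega⟩⟩
  have hM := Mod.extraspecial (isUnit_Aplus n)
  exact Cfsg.Agent.Lead.ES2.iso_of_NN hE hM (by rw [hcard, card_plus])
    (by rw [hNN, NN_plus n hn])

/-- an extraspecial group of minus type is isomorphic to the minus model -/
theorem exists_iso_minus {E : Type*} [Group E] [Finite E] (hE : Cfsg.IsExtraspecial 2 E) (n : ℕ)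
    (hn : 1 ≤ n) (hcard : Nat.card E = 2 ^ (2 * n + 1))
    (h : ¬ ∃ A : Subgroup E, Cfsg.IsElementaryAbelian 2 A ∧ Nat.card ↥A = 2 ^ (n + 1)) :
    Nonempty (E ≃* Mod (Aminus (n - 1))) := by
  obtain ⟨m, hm1, hmc, hm⟩ := Cfsg.Agent.Lead.ES2.type_of hE
  have hmn : m = n := by
    have h1 := hmc.symm.trans hcard
    have h2 := Nat.pow_right_injective (le_refl 2) h1
    omega
  subst hmn
  have hNN : NN E + 2 ^ m = 2 ^ (2 * m) := by
    rcases hm with h' | h'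
    · exfalso; exact h (Cfsg.Agent.Lead.ES2.rank_plus hE m hcard h').2.2
    · exact h'
  haveI : Nonempty ((Fin (m - 1) ⊕ Fin (m - 1)) ⊕ Fin 2) := ⟨Sum.inr 0⟩
  have hM := Mod.extraspecial (isUnit_Aminus (m - 1))
  exact Cfsg.Agent.Lead.ES2.iso_of_NN hE hM (by rw [hcard, card_minus m hn])
    (by have := NN_minus m hn; omega)

/-- outer automorphisms, plus type -/
theorem out_plus {E : Type*} [Group E] [Finite E] (hE : Cfsg.IsExtraspecial 2 E) (n : ℕ)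
    (hn : 1 ≤ n) (hcard : Nat.card E = 2 ^ (2 * n + 1))
    (h : ∃ A : Subgroup E, Cfsg.IsElementaryAbelian 2 A ∧ Nat.card ↥A = 2 ^ (n + 1)) :
    Nonempty (Cfsg.Out E ≃* Cfsg.isometryGroup (ZMod 2) (Cfsg.quadFormPlus n (ZMod 2))) := by
  obtain ⟨e⟩ := exists_iso_plus hE n hn hcard h
  exact ⟨(outCongr e).trans ((Mod.outEquiv (isUnit_Aplus n)).trans (isoCongr (Q_Aplus n)))⟩

/-- outer automorphisms, minus type -/
theorem out_minus {E : Type*} [Group E] [Finite E] (hE : Cfsg.IsExtraspecial 2 E) (n : ℕ)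
    (hn : 1 ≤ n) (hcard : Nat.card E = 2 ^ (2 * n + 1))
    (h : ¬ ∃ A : Subgroup E, Cfsg.IsElementaryAbelian 2 A ∧ Nat.card ↥A = 2 ^ (n + 1)) :
    Nonempty (Cfsg.Out E ≃*
      Cfsg.isometryGroup (ZMod 2) (Cfsg.quadFormMinus (n - 1) (ZMod 2) 1 1)) := by
  obtain ⟨e⟩ := exists_iso_minus hE n hn hcard h
  exact ⟨(outCongr e).trans
    ((Mod.outEquiv (isUnit_Aminus (n - 1))).trans (isoCongr (Q_Aminus (n - 1))))⟩

end Cfsg.Agent.Lib.Helper5.ESOut
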