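import Mathlib
import Cfsg.Agent.Lib.Helper5.ESOut.Config
import Cfsg.Agent.Lib.Helper5.ESOut.Count

set_option linter.style.longLine false
set_option linter.unusedVariables false
set_option linter.unusedSectionVars false

/-!
The automorphism group of an extraspecial 2-group of plus type and order at least `2 ^ 7` does not
split over the inner automorphism group.
-/

open scoped commutatorElement
open Matrix

namespace Cfsg.Agent.Lib.Helper5.ESOut

variable {n : ℕ}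

/-- standard basis vectors -/
def ee (i : Fin n) : Fin n ⊕ Fin n → ZMod 2 := Pi.single (Sum.inl i) 1

/-- standard basis vectors -/
def ff (i : Fin n) : Fin n ⊕ Fin n → ZMod 2 := Pi.single (Sum.inr i) 1

/-- nonsingular vectors -/
def pp (i : Fin n) : Fin n ⊕ Fin n → ZMod 2 := ee i + ff i

theorem bl_ee_ee (i j : Fin n) : bl (Aplus n) (ee i) (ee j) = 0 := by
  rw [ee, ee, bl_single]; simp [Aplus]

theorem bl_ee_ff (i j : Fin n) : bl (Aplus n) (ee i) (ff j) = if i = j then 1 else 0 := by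
  rw [ee, ff, bl_single]; simp [Aplus, Matrix.one_apply]

theorem bl_ff_ee (i j : Fin n) : bl (Aplus n) (ff i) (ee j) = 0 := by
  rw [ee, ff, bl_single]; simp [Aplus]

theorem bl_ff_ff (i j : Fin n) : bl (Aplus n) (ff i) (ff j) = 0 := by
  rw [ff, ff, bl_single]; simp [Aplus]

theorem bl_pp_pp (i j : Fin n) : bl (Aplus n) (pp i) (pp j) = if i = j then 1 else 0 := by
  unfold pp
  rw [bl_add_left, bl_add_right, bl_add_right, bl_ee_ee, bl_ee_ff, bl_ff_ee, bl_ff_ff]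
  simp

theorem bl_ee_pp (i j : Fin n) : bl (Aplus n) (ee i) (pp j) = if i = j then 1 else 0 := by
  unfold pp
  rw [bl_add_right, bl_ee_ee, bl_ee_ff]; simp

theorem bl_pp_ee (i j : Fin n) : bl (Aplus n) (pp i) (ee j) = 0 := by
  unfold pp
  rw [bl_add_left, bl_ee_ee, bl_ff_ee]; simp

theorem Bf_pp_pp (i j : Fin n) : Bf (Aplus n) (pp i) (pp j) = 0 := by
  rw [Bf_eq, bl_pp_pp, bl_pp_pp]
  by_cases h : i = j
  · subst h; simp [z2_add_self]
  · rw [if_neg h, if_neg (Ne.symm h)]; simp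

theorem Bf_ee_pp (i j : Fin n) : Bf (Aplus n) (ee i) (pp j) = if i = j then 1 else 0 := by
  rw [Bf_eq, bl_ee_pp, bl_pp_ee, add_zero]

theorem Q_pp3 (i j k : Fin n) (hij : i ≠ j) (hik : i ≠ k) (hjk : j ≠ k) :
    bl (Aplus n) (pp i + pp j + pp k) (pp i + pp j + pp k) = 1 := by
  simp only [bl_add_left, bl_add_right, bl_pp_pp, if_neg hij, if_neg hik, if_neg hjk,
    if_neg (Ne.symm hij), if_neg (Ne.symm hik), if_neg (Ne.symm hjk), if_true]
  decide

theorem nonsplit {Q : Type*} [Group Q] [Finite Q] (n : ℕ) (hn : 3 ≤ n)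
    (hQ : Cfsg.IsExtraspecial 2 Q) (hcard : Nat.card Q = 2 ^ (2 * n + 1))
    (hplus : ∃ E : Subgroup Q, Cfsg.IsElementaryAbelian 2 E ∧ Nat.card ↥E = 2 ^ (n + 1))
    (L : Subgroup (MulAut Q)) : ¬ (Cfsg.Inn Q).IsComplement' L := by
  intro hL
  obtain ⟨e⟩ := exists_iso_plus hQ n (by omega) hcard hplus
  let i0 : Fin n := ⟨0, by omega⟩
  let i1 : Fin n := ⟨1, by omega⟩
  let i2 : Fin n := ⟨2, by omega⟩
  have h01 : i0 ≠ i1 := by intro h; have := congrArg Fin.val h; simp [i0, i1] at this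
  have h02 : i0 ≠ i2 := by intro h; have := congrArg Fin.val h; simp [i0, i2] at this
  have h12 : i1 ≠ i2 := by intro h; have := congrArg Fin.val h; simp [i1, i2] at this
  refine no_complement_config (isUnit_Aplus n) e L hL (ee i0) (ee i1) (ee i2) (pp i0) (pp i1)
    (pp i2) ?_ ?_ ?_ (Q_pp3 i0 i1 i2 h01 h02 h12) (Bf_pp_pp _ _) (Bf_pp_pp _ _) (Bf_pp_pp _ _)
    ?_ ?_ ?_ ?_ ?_ ?_ ?_ ?_ ?_
  · rw [bl_pp_pp, if_pos rfl]
  · rw [bl_pp_pp, if_pos rfl]
  · rw [bl_pp_pp, if_pos rfl]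
  · rw [Bf_ee_pp, if_pos rfl]
  · rw [Bf_ee_pp, if_neg h01]
  · rw [Bf_ee_pp, if_neg h02]
  · rw [Bf_ee_pp, if_neg (Ne.symm h01)]
  · rw [Bf_ee_pp, if_pos rfl]
  · rw [Bf_ee_pp, if_neg h12]
  · rw [Bf_ee_pp, if_neg (Ne.symm h02)]
  · rw [Bf_ee_pp, if_neg (Ne.symm h12)]
  · rw [Bf_ee_pp, if_pos rfl]

end Cfsg.Agent.Lib.Helper5.ESOut
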