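import Mathlib
import Cfsg.Agent.Lib.Helper5.ESOut.Forms

set_option linter.style.longLine false
set_option linter.unusedVariables false
set_option linter.unusedSectionVars false

/-!
The faithful irreducible representation of the plus-type model group `Mod (Aplus n)` on the space of
`ZMod 3`-valued functions on `Fin n → ZMod 2`: `(T m f) w = ± f (w + a)`.
-/

open Matrix

namespace Cfsg.Agent.Lib.Helper5.ESOut.Spin

open Cfsg.Agent.Lib.Helper5.ESOut
open Cfsg.Agent.Lib.Helper5.ESOut.Mod

/-- index set -/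
abbrev I (n : ℕ) := Fin n → ZMod 2
/-- the representation space -/
abbrev W (n : ℕ) := I n → ZMod 3
/-- the model group -/
abbrev M (n : ℕ) := Mod (Aplus n)

variable {n : ℕ}

/-- the sign character -/
def sg (t : ZMod 2) : ZMod 3 := if t = 0 then 1 else -1

theorem sg_add (s t : ZMod 2) : sg (s + t) = sg s * sg t := by revert s t; decide
@[simp] theorem sg_zero : sg 0 = 1 := rfl
theorem sg_one : sg 1 = -1 := by decide
theorem sg_mul_self (t : ZMod 2) : sg t * sg t = 1 := by revert t; decide
theorem sg_ne_zero (t : ZMod 2) : sg t ≠ 0 := by revert t; decide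
theorem sg_injective : Function.Injective sg := by decide

theorem i_add_self (x : I n) : x + x = 0 := vec_add_self x

/-- first half of the vector part -/
def pa (m : M n) : I n := fun i => m.v (Sum.inl i)
/-- second half of the vector part -/
def pb (m : M n) : I n := fun i => m.v (Sum.inr i)

theorem pa_mul (m m' : M n) : pa (m * m') = pa m + pa m' := rfl
theorem pb_mul (m m' : M n) : pb (m * m') = pb m + pb m' := rfl
@[simp] theorem pa_one : pa (1 : M n) = 0 := rfl
@[simp] theorem pb_one : pb (1 : M n) = 0 := rfl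
@[simp] theorem pa_zc (t : ZMod 2) : pa (zc (Aplus n) t) = 0 := rfl
@[simp] theorem pb_zc (t : ZMod 2) : pb (zc (Aplus n) t) = 0 := rfl

theorem mul_c' (m m' : M n) : (m * m').c = m.c + m'.c + pa m ⬝ᵥ pb m' := by
  rw [mul_c, bl_Aplus]; rfl

theorem v_eq_zero_iff (m : M n) : m.v = 0 ↔ pa m = 0 ∧ pb m = 0 := by
  constructor
  · intro h
    constructor <;> funext i <;> simp [pa, pb, h]
  · rintro ⟨h1, h2⟩
    funext j
    rcases j with i | i
    · exact congrFun h1 i
    · exact congrFun h2 i

/-- the representation -/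
def T (m : M n) : W n →ₗ[ZMod 3] W n where
  toFun f := fun w => sg (m.c + pb m ⬝ᵥ w) * f (w + pa m)
  map_add' f g := by funext w; simp [mul_add]
  map_smul' r f := by funext w; simp; ring

theorem T_apply (m : M n) (f : W n) (w : I n) :
    T m f w = sg (m.c + pb m ⬝ᵥ w) * f (w + pa m) := rfl

theorem T_mul (m m' : M n) : T (m * m') = T m * T m' := by
  apply LinearMap.ext; intro f; funext w
  rw [Module.End.mul_apply, T_apply, T_apply, T_apply, mul_c', pa_mul, pb_mul, add_dotProduct,
    dotProduct_add, dotProduct_comm (pa m) (pb m'), add_assoc w]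
  simp only [sg_add]
  ring

theorem T_one : T (1 : M n) = 1 := by
  apply LinearMap.ext; intro f; funext w
  rw [T_apply]
  simp

/-- the representation as a monoid homomorphism -/
def Trep (n : ℕ) : M n →* Module.End (ZMod 3) (W n) where
  toFun := T
  map_one' := T_one
  map_mul' := T_mul

/-- the representation into the units -/
def TU (n : ℕ) : M n →* (Module.End (ZMod 3) (W n))ˣ := (Trep n).toHomUnits

theorem TU_coe (m : M n) : ((TU n m : (Module.End (ZMod 3) (W n))ˣ) : Module.End (ZMod 3) (W n)) = T m :=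
  rfl

theorem T_single (m : M n) (u : I n) (x : ZMod 3) :
    T m (Pi.single u x) = Pi.single (u + pa m) (sg (m.c + pb m ⬝ᵥ (u + pa m)) * x) := by
  funext w
  rw [T_apply]
  by_cases h : w = u + pa m
  · subst h
    rw [add_assoc, i_add_self, add_zero, Pi.single_eq_same, Pi.single_eq_same]
  · have h' : w + pa m ≠ u := by
      intro h2; apply h; rw [← h2, add_assoc, i_add_self, add_zero]
    rw [Pi.single_eq_of_ne h, Pi.single_eq_of_ne h', mul_zero]

theorem T_zc (t : ZMod 2) (f : W n) : T (zc (Aplus n) t) f = sg t • f := by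
  funext w
  rw [T_apply]
  simp

/-- lifts of the first half -/
def la (a : I n) : M n := lift (Aplus n) (Sum.elim a 0)
/-- lifts of the second half -/
def lb (b : I n) : M n := lift (Aplus n) (Sum.elim 0 b)

@[simp] theorem pa_la (a : I n) : pa (la a) = a := rfl
@[simp] theorem pb_la (a : I n) : pb (la a) = 0 := rfl
@[simp] theorem pa_lb (b : I n) : pa (lb b) = 0 := rfl
@[simp] theorem pb_lb (b : I n) : pb (lb b) = b := rfl
@[simp] theorem la_c (a : I n) : (la a).c = 0 := rfl
@[simp] theorem lb_c (b : I n) : (lb b).c = 0 := rfl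

theorem ext' {m m' : M n} (h1 : pa m = pa m') (h2 : pb m = pb m') (h3 : m.c = m'.c) : m = m' := by
  refine Mod.ext ?_ h3
  funext j
  rcases j with i | i
  · exact congrFun h1 i
  · exact congrFun h2 i

theorem la_add (a a' : I n) : la (a + a') = la a * la a' := by
  apply ext'
  · rw [pa_mul]; rfl
  · rw [pb_mul]; simp
  · rw [mul_c']; simp

theorem lb_add (b b' : I n) : lb (b + b') = lb b * lb b' := by
  apply ext'
  · rw [pa_mul]; simp
  · rw [pb_mul]; rfl
  · rw [mul_c']; simp

theorem la_zero : la (0 : I n) = 1 := by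
  apply ext' <;> rfl

theorem lb_zero : lb (0 : I n) = 1 := by
  apply ext' <;> rfl

theorem decomp (m : M n) (u : I n) :
    m * la u = la (pa m + u) * lb (pb m) * zc (Aplus n) (m.c + (pa m + u) ⬝ᵥ pb m) := by
  apply ext'
  · rw [pa_mul, pa_mul, pa_mul]; simp
  · rw [pb_mul, pb_mul, pb_mul]; simp
  · rw [mul_c', mul_c', mul_c']
    simp only [la_c, lb_c, pb_la, pa_la, pb_lb, zc_c, pb_zc, dotProduct_zero, add_zero, zero_add]
    have key : ∀ x y : ZMod 2, x = y + (x + y) := by decide
    exact key _ _

theorem T_la_single (a u : I n) (x : ZMod 3) : T (la a) (Pi.single u x) = Pi.single (u + a) x := by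
  rw [T_single]
  simp

theorem T_lb_apply (b : I n) (f : W n) (w : I n) : T (lb b) f w = sg (b ⬝ᵥ w) * f w := by
  rw [T_apply]
  simp

/-! ### character sums -/

theorem card_I : (Fintype.card (I n) : ZMod 3) = 2 ^ n := by
  rw [Fintype.card_fun, ZMod.card, Fintype.card_fin]
  push_cast
  rfl

theorem two_pow_ne_zero : (2 : ZMod 3) ^ n ≠ 0 := by
  apply pow_ne_zero
  decide

theorem sum_sg_zero : ∑ b : I n, sg (b ⬝ᵥ (0 : I n)) = (2 : ZMod 3) ^ n := by
  simp only [dotProduct_zero, sg_zero, Finset.sum_const, Finset.card_univ, nsmul_eq_mul, mul_one]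
  exact card_I

theorem sum_sg_ne {x : I n} (hx : x ≠ 0) : ∑ b : I n, sg (b ⬝ᵥ x) = 0 := by
  obtain ⟨i, hi⟩ : ∃ i, x i ≠ 0 := by
    by_contra h
    push Not at h
    exact hx (funext h)
  have hi1 : x i = 1 := by
    rcases z2_cases (x i) with h | h
    · exact absurd h hi
    · exact h
  have h2 : ∑ b : I n, sg ((b + Pi.single i 1) ⬝ᵥ x) = ∑ b : I n, sg (b ⬝ᵥ x) :=
    Equiv.sum_comp (Equiv.addRight (Pi.single i (1 : ZMod 2) : I n)) (fun b => sg (b ⬝ᵥ x))
  have h1 : ∑ b : I n, sg (b ⬝ᵥ x) = - ∑ b : I n, sg (b ⬝ᵥ x) := by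
    nth_rewrite 1 [← h2]
    rw [← Finset.sum_neg_distrib]
    apply Finset.sum_congr rfl
    intro b _
    rw [add_dotProduct, single_dotProduct, hi1, sg_add, one_mul, sg_one]
    ring
  have h3 : (2 : ZMod 3) * 2 = 1 := by decide
  have h4 : (∑ b : I n, sg (b ⬝ᵥ x)) + ∑ b : I n, sg (b ⬝ᵥ x) = 0 := by
    nth_rewrite 1 [h1]; ring
  calc ∑ b : I n, sg (b ⬝ᵥ x) = (2 * 2) * ∑ b : I n, sg (b ⬝ᵥ x) := by rw [h3, one_mul]
    _ = 2 * ((∑ b : I n, sg (b ⬝ᵥ x)) + ∑ b : I n, sg (b ⬝ᵥ x)) := by ring
    _ = 0 := by rw [h4, mul_zero]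

theorem exists_dot_one {x : I n} (hx : x ≠ 0) : ∃ b : I n, b ⬝ᵥ x = 1 := by
  obtain ⟨i, hi⟩ : ∃ i, x i ≠ 0 := by
    by_contra h
    push Not at h
    exact hx (funext h)
  refine ⟨Pi.single i 1, ?_⟩
  rw [single_dotProduct, one_mul]
  rcases z2_cases (x i) with h | h
  · exact absurd h hi
  · exact h

/-! ### injectivity -/

theorem T_injective : Function.Injective (T (n := n)) := by
  intro m m' h
  have h0 := fun u => congrFun (congrArg (fun L => L (Pi.single u (1 : ZMod 3))) h)
  simp only [T_single, mul_one] at h0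
  have ha : pa m = pa m' := by
    have h1 := h0 0 (0 + pa m)
    rw [Pi.single_eq_same] at h1
    by_contra hne
    rw [Pi.single_eq_of_ne (by simpa using hne)] at h1
    exact sg_ne_zero _ h1
  have hval : ∀ u : I n, m.c + pb m ⬝ᵥ u = m'.c + pb m' ⬝ᵥ u := by
    intro u
    have h1 := h0 (u + pa m) u
    rw [← ha, add_assoc, i_add_self, add_zero, Pi.single_eq_same, Pi.single_eq_same] at h1
    exact sg_injective h1
  have hc : m.c = m'.c := by simpa using hval 0
  have hb : pb m = pb m' := by
    funext i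
    have := hval (Pi.single i 1)
    rw [hc, dotProduct_single, dotProduct_single, mul_one, mul_one] at this
    exact add_left_cancel this
  exact ext' ha hb hc

theorem TU_injective : Function.Injective (TU n) := by
  intro m m' h
  apply T_injective
  rw [← TU_coe, ← TU_coe, h]

/-! ### the commutant -/

theorem commutant (C : Module.End (ZMod 3) (W n)) (hC : ∀ m : M n, C * T m = T m * C) :
    ∃ c : ZMod 3, C = c • (1 : Module.End (ZMod 3) (W n)) := by
  have hdiag : ∀ u w : I n, w ≠ u → C (Pi.single u 1) w = 0 := by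
    intro u w hwu
    have hne : w + u ≠ 0 := by
      intro h; apply hwu
      calc w = w + (u + u) := by rw [i_add_self, add_zero]
        _ = (w + u) + u := by rw [add_assoc]
        _ = u := by rw [h, zero_add]
    obtain ⟨b, hb⟩ := exists_dot_one hne
    have h1 := congrFun (congrArg (fun L => L (Pi.single u (1 : ZMod 3))) (hC (lb b))) w
    simp only [Module.End.mul_apply] at h1
    rw [T_lb_apply, T_single] at h1
    simp only [lb_c, pb_lb, pa_lb, add_zero, zero_add, mul_one] at h1
    have h2 : (Pi.single u (sg (b ⬝ᵥ u)) : W n) = sg (b ⬝ᵥ u) • Pi.single u 1 := by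
      rw [← Pi.single_smul, smul_eq_mul, mul_one]
    rw [h2, map_smul, Pi.smul_apply, smul_eq_mul] at h1
    have h3 : sg (b ⬝ᵥ w) = - sg (b ⬝ᵥ u) := by
      have : b ⬝ᵥ w = b ⬝ᵥ u + 1 := by
        rw [← hb, dotProduct_add]
        have key : ∀ x y : ZMod 2, x = y + (x + y) := by decide
        exact key _ _
      rw [this, sg_add, sg_one]; ring
    rw [h3] at h1
    have h4 : sg (b ⬝ᵥ u) * (C (Pi.single u 1) w + C (Pi.single u 1) w) = 0 := by
      linear_combination h1
    rcases mul_eq_zero.1 h4 with h5 | h5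
    · exact absurd h5 (sg_ne_zero _)
    · have h3' : (2 : ZMod 3) * 2 = 1 := by decide
      calc C (Pi.single u 1) w = (2 * 2) * C (Pi.single u 1) w := by rw [h3', one_mul]
        _ = 2 * (C (Pi.single u 1) w + C (Pi.single u 1) w) := by ring
        _ = 0 := by rw [h5, mul_zero]
  have hshift : ∀ u : I n, C (Pi.single u 1) u = C (Pi.single 0 1) 0 := by
    intro u
    have h1 := congrFun (congrArg (fun L => L (Pi.single 0 (1 : ZMod 3))) (hC (la u))) u
    simp only [Module.End.mul_apply] at h1
    rw [T_la_single, zero_add, T_apply] at h1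
    simp only [la_c, pb_la, pa_la, zero_dotProduct, add_zero, sg_zero, one_mul] at h1
    rw [h1, i_add_self]
  refine ⟨C (Pi.single 0 1) 0, ?_⟩
  apply LinearMap.pi_ext
  intro u x
  funext w
  have hx : (Pi.single u x : W n) = x • Pi.single u 1 := by
    rw [← Pi.single_smul, smul_eq_mul, mul_one]
  rw [hx, map_smul, map_smul]
  simp only [Pi.smul_apply, LinearMap.smul_apply, Module.End.one_apply, smul_eq_mul]
  by_cases h : w = u
  · subst h
    rw [hshift, Pi.single_eq_same, mul_one]
  · rw [hdiag u w h, Pi.single_eq_of_ne h, mul_zero, mul_zero, mul_zero]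

/-! ### irreducibility -/

theorem proj_formula (f : W n) (u : I n) :
    ∑ b : I n, sg (b ⬝ᵥ u) • T (lb b) f = Pi.single u ((2 : ZMod 3) ^ n * f u) := by
  funext w
  rw [Finset.sum_apply]
  simp only [Pi.smul_apply, T_lb_apply, smul_eq_mul]
  have h1 : ∀ b : I n, sg (b ⬝ᵥ u) * (sg (b ⬝ᵥ w) * f w) = sg (b ⬝ᵥ (u + w)) * f w := by
    intro b
    rw [dotProduct_add, sg_add]; ring
  simp only [h1]
  rw [← Finset.sum_mul]
  by_cases h : w = u
  · subst h
    rw [i_add_self, sum_sg_zero, Pi.single_eq_same]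
  · have hne : u + w ≠ 0 := by
      intro h2; apply h
      calc w = (u + u) + w := by rw [i_add_self, zero_add]
        _ = u + (u + w) := by rw [add_assoc]
        _ = u := by rw [h2, add_zero]
    rw [sum_sg_ne hne, zero_mul, Pi.single_eq_of_ne h]

theorem inter_injective (S : Module.End (ZMod 3) (W n)) (T' : M n → Module.End (ZMod 3) (W n))
    (hS : ∀ m : M n, S * T m = T' m * S) (hne : S ≠ 0) : Function.Injective S := by
  rw [injective_iff_map_eq_zero]
  intro f hf
  by_contra hf0
  obtain ⟨u, hu⟩ : ∃ u, f u ≠ 0 := by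
    by_contra h
    push Not at h
    exact hf0 (funext h)
  have hker : ∀ m : M n, S (T m f) = 0 := by
    intro m
    have := congrArg (fun L => L f) (hS m)
    simp only [Module.End.mul_apply] at this
    rw [this, hf, map_zero]
  have h1 : S (Pi.single u ((2 : ZMod 3) ^ n * f u)) = 0 := by
    rw [← proj_formula, map_sum]
    apply Finset.sum_eq_zero
    intro b _
    rw [map_smul, hker, smul_zero]
  have h2 : S (Pi.single u 1) = 0 := by
    have hx : (Pi.single u ((2 : ZMod 3) ^ n * f u) : W n) = ((2 : ZMod 3) ^ n * f u) • Pi.single u 1 := by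
      rw [← Pi.single_smul, smul_eq_mul, mul_one]
    rw [hx, map_smul] at h1
    rcases smul_eq_zero.1 h1 with h3 | h3
    · exact absurd h3 (mul_ne_zero two_pow_ne_zero hu)
    · exact h3
  apply hne
  apply LinearMap.pi_ext
  intro u' x
  have hx : (Pi.single u' x : W n) = x • T (la (u + u')) (Pi.single u 1) := by
    rw [T_la_single, ← add_assoc, i_add_self, zero_add, ← Pi.single_smul, smul_eq_mul, mul_one]
  rw [hx, map_smul]
  have := congrArg (fun L => L (Pi.single u (1 : ZMod 3))) (hS (la (u + u')))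
  simp only [Module.End.mul_apply] at this
  rw [this, h2, map_zero, smul_zero]
  rfl

end Cfsg.Agent.Lib.Helper5.ESOut.Spin
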