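import Mathlib
import Cfsg.Agent.Lib.Helper5.ESOut.Spin

set_option linter.style.longLine false
set_option linter.unusedVariables false
set_option linter.unusedSectionVars false

/-!
Every automorphism of `Mod (Aplus n)` is induced by conjugation with an invertible operator on the
representation space.
-/

open Matrix

namespace Cfsg.Agent.Lib.Helper5.ESOut.Spin

open Cfsg.Agent.Lib.Helper5.ESOut
open Cfsg.Agent.Lib.Helper5.ESOut.Mod

variable {n : ℕ}

/-- the trace -/
def tr (L : Module.End (ZMod 3) (W n)) : ZMod 3 := ∑ u : I n, L (Pi.single u 1) u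

theorem tr_sum {κ : Type*} (s : Finset κ) (L : κ → Module.End (ZMod 3) (W n)) :
    tr (∑ k ∈ s, L k) = ∑ k ∈ s, tr (L k) := by
  unfold tr
  simp only [LinearMap.sum_apply, Finset.sum_apply]
  exact Finset.sum_comm

theorem tr_one : tr (1 : Module.End (ZMod 3) (W n)) = (2 : ZMod 3) ^ n := by
  unfold tr
  simp only [Module.End.one_apply, Pi.single_eq_same, Finset.sum_const, Finset.card_univ,
    nsmul_eq_mul, mul_one]
  exact card_I

theorem tr_T_of_ne (m : M n) (h : m.v ≠ 0) : tr (T m) = 0 := by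
  unfold tr
  simp only [T_single, mul_one]
  by_cases ha : pa m = 0
  · have hb : pb m ≠ 0 := fun hb => h ((v_eq_zero_iff m).2 ⟨ha, hb⟩)
    simp only [ha, add_zero, Pi.single_eq_same, sg_add]
    rw [← Finset.mul_sum]
    have : ∑ u : I n, sg (pb m ⬝ᵥ u) = ∑ u : I n, sg (u ⬝ᵥ pb m) :=
      Finset.sum_congr rfl (fun u _ => by rw [dotProduct_comm])
    rw [this, sum_sg_ne hb, mul_zero]
  · apply Finset.sum_eq_zero
    intro u _
    apply Pi.single_eq_of_ne
    intro h2
    apply ha
    calc pa m = (u + u) + pa m := by rw [i_add_self, zero_add]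
      _ = u + (u + pa m) := by rw [add_assoc]
      _ = u + u := by rw [← h2]
      _ = 0 := i_add_self u

theorem aut_v_eq_zero (φ : M n ≃* M n) (m : M n) (h : (φ m).v = 0) : m.v = 0 := by
  have h1 : φ m = zc (Aplus n) (φ m).c := Mod.ext h rfl
  have h2 : m = zc (Aplus n) (φ m).c := by
    have := congrArg φ.symm h1
    rw [MulEquiv.symm_apply_apply, map_zc (isUnit_Aplus n)] at this
    exact this
  rw [h2]; rfl

/-- the sum of the operators attached to the second half -/
def E (φ : M n ≃* M n) : Module.End (ZMod 3) (W n) := ∑ b : I n, T (φ (lb b))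

theorem tr_E (φ : M n ≃* M n) : tr (E φ) = (2 : ZMod 3) ^ n := by
  unfold E
  rw [tr_sum, Finset.sum_eq_single (0 : I n)]
  · rw [lb_zero, map_one, T_one, tr_one]
  · intro b _ hb
    apply tr_T_of_ne
    intro h
    apply hb
    have h1 := aut_v_eq_zero φ _ h
    have h2 : pb (lb b) = 0 := ((v_eq_zero_iff _).1 h1).2
    simpa using h2
  · intro h; exact absurd (Finset.mem_univ _) h

theorem Z_mul_E (φ : M n ≃* M n) (b : I n) : T (φ (lb b)) * E φ = E φ := by
  unfold E
  rw [Finset.mul_sum]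
  simp only [← T_mul, ← map_mul, ← lb_add]
  exact Equiv.sum_comp (Equiv.addLeft b) (fun b' => T (φ (lb b')))

theorem exists_fixed (φ : M n ≃* M n) :
    ∃ w₀ : W n, w₀ ≠ 0 ∧ ∀ b : I n, T (φ (lb b)) w₀ = w₀ := by
  have h1 : tr (E φ) ≠ 0 := by rw [tr_E]; exact two_pow_ne_zero
  unfold tr at h1
  obtain ⟨u, _, hu⟩ := Finset.exists_ne_zero_of_sum_ne_zero h1
  refine ⟨E φ (Pi.single u 1), ?_, ?_⟩
  · intro h0
    apply hu
    rw [h0]; rfl
  · intro b
    rw [← Module.End.mul_apply, Z_mul_E]

/-- the intertwining operator -/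
def Sint (φ : M n ≃* M n) (w₀ : W n) : Module.End (ZMod 3) (W n) :=
  ∑ u : I n, (LinearMap.proj u : W n →ₗ[ZMod 3] ZMod 3).smulRight (T (φ (la u)) w₀)

theorem Sint_single (φ : M n ≃* M n) (w₀ : W n) (a : I n) (x : ZMod 3) :
    Sint φ w₀ (Pi.single a x) = x • T (φ (la a)) w₀ := by
  unfold Sint
  rw [LinearMap.sum_apply, Finset.sum_eq_single a]
  · rw [LinearMap.smulRight_apply, LinearMap.proj_apply, Pi.single_eq_same]
  · intro u _ hu
    rw [LinearMap.smulRight_apply, LinearMap.proj_apply, Pi.single_eq_of_ne hu, zero_smul]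
  · intro h; exact absurd (Finset.mem_univ _) h

theorem Sint_inter (φ : M n ≃* M n) (w₀ : W n) (hw : ∀ b : I n, T (φ (lb b)) w₀ = w₀) (m : M n) :
    Sint φ w₀ * T m = T (φ m) * Sint φ w₀ := by
  apply LinearMap.pi_ext
  intro u x
  rw [Module.End.mul_apply, Module.End.mul_apply, T_single, Sint_single, Sint_single, map_smul,
    ← Module.End.mul_apply, ← T_mul, ← map_mul, decomp, map_mul, map_mul,
    map_zc (isUnit_Aplus n), T_mul, T_mul, Module.End.mul_apply, Module.End.mul_apply, T_zc,
    map_smul, map_smul, hw, smul_smul, add_comm u (pa m), dotProduct_comm (pb m)]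
  congr 1
  ring

theorem exists_inter (φ : M n ≃* M n) :
    ∃ S : (Module.End (ZMod 3) (W n))ˣ, ∀ m : M n, S * TU n m = TU n (φ m) * S := by
  obtain ⟨w₀, hw0, hw⟩ := exists_fixed φ
  have hI := Sint_inter φ w₀ hw
  have hne : Sint φ w₀ ≠ 0 := by
    intro h0
    apply hw0
    have h1 := Sint_single φ w₀ 0 1
    rw [h0, la_zero, map_one, T_one, one_smul] at h1
    exact h1.symm
  have hinj := inter_injective (Sint φ w₀) (fun m => T (φ m)) hI hne
  have hbij : Function.Bijective (Sint φ w₀) := ⟨hinj, LinearMap.injective_iff_surjective.1 hinj⟩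
  have hu : IsUnit (Sint φ w₀) := (Module.End.isUnit_iff _).2 hbij
  refine ⟨hu.unit, fun m => ?_⟩
  apply Units.ext
  rw [Units.val_mul, Units.val_mul, TU_coe, TU_coe, IsUnit.unit_spec]
  exact hI m

end Cfsg.Agent.Lib.Helper5.ESOut.Spin
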