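import Mathlib
import Cfsg.Agent.Lib.Helper5.ESOut.SpinInter
import Cfsg.Agent.Lib.Helper7.Qd2

set_option linter.style.longLine false
set_option linter.unusedVariables false
set_option linter.unusedSectionVars false

/-!
Given a group `K` of isometries of the plus-type form, the group of operators on the representation
space inducing on `Mod (Aplus n)` an automorphism lying over an element of `K` is an extension of
`Mod (Aplus n)` by `K`.
-/

open Matrix

namespace Cfsg.Agent.Lib.Helper5.ESOut.Spin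

open Cfsg.Agent.Lib.Helper5.ESOut
open Cfsg.Agent.Lib.Helper5.ESOut.Mod

variable {n : ℕ}

/-- the isometry group of the squaring form -/
abbrev Iso (n : ℕ) : Subgroup (GL (Fin n ⊕ Fin n) (ZMod 2)) :=
  Cfsg.isometryGroup (ZMod 2) (fun v : Fin n ⊕ Fin n → ZMod 2 => bl (Aplus n) v v)

/-- invertible operators -/
abbrev GLW (n : ℕ) := (Module.End (ZMod 3) (W n))ˣ

/-- the map to the isometry group -/
noncomputable abbrev th (n : ℕ) : MulAut (M n) →* ↥(Iso n) := theta (isUnit_Aplus n)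

instance : Finite (Module.End (ZMod 3) (W n)) :=
  Finite.of_injective (fun L : Module.End (ZMod 3) (W n) => (L : W n → W n)) DFunLike.coe_injective

variable {K : Type*} [Group K] (gK : K →* ↥(Iso n))

/-- the extension group -/
def RR : Subgroup (GLW n) where
  carrier := {S | ∃ (k : K) (φ : MulAut (M n)), th n φ = gK k ∧
    ∀ m : M n, S * TU n m = TU n (φ m) * S}
  one_mem' := ⟨1, 1, by rw [map_one, map_one], fun m => by rw [one_mul, mul_one]; rfl⟩
  mul_mem' := by
    rintro S S' ⟨k, φ, h1, h2⟩ ⟨k', φ', h1', h2'⟩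
    refine ⟨k * k', φ * φ', by rw [map_mul, map_mul, h1, h1'], fun m => ?_⟩
    rw [mul_assoc, h2', ← mul_assoc, h2, mul_assoc]
    rfl
  inv_mem' := by
    rintro S ⟨k, φ, h1, h2⟩
    refine ⟨k⁻¹, φ⁻¹, by rw [map_inv, map_inv, h1], fun m => ?_⟩
    have h3 := h2 (φ⁻¹ m)
    have h4 : φ (φ⁻¹ m) = m := MulEquiv.apply_symm_apply φ m
    rw [h4] at h3
    rw [inv_mul_eq_iff_eq_mul, ← mul_assoc, h3, mul_assoc, mul_inv_cancel, mul_one]

theorem RR_unique {S : GLW n} {k k' : K} {φ φ' : MulAut (M n)} (hg : Function.Injective gK)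
    (h1 : th n φ = gK k) (h2 : ∀ m : M n, S * TU n m = TU n (φ m) * S)
    (h1' : th n φ' = gK k') (h2' : ∀ m : M n, S * TU n m = TU n (φ' m) * S) : k = k' := by
  have hφ : φ = φ' := by
    apply MulEquiv.ext; intro m
    apply TU_injective
    exact mul_right_cancel ((h2 m).symm.trans (h2' m))
  apply hg
  rw [← h1, ← h1', hφ]

/-- the projection to `K` -/
noncomputable def piFun (S : ↥(RR gK)) : K := Classical.choose S.2

theorem piFun_spec (S : ↥(RR gK)) : ∃ φ : MulAut (M n), th n φ = gK (piFun gK S) ∧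
    ∀ m : M n, (S : GLW n) * TU n m = TU n (φ m) * S := Classical.choose_spec S.2

theorem piFun_eq (hg : Function.Injective gK) (S : ↥(RR gK)) (k : K) (φ : MulAut (M n))
    (h1 : th n φ = gK k) (h2 : ∀ m : M n, (S : GLW n) * TU n m = TU n (φ m) * S) :
    piFun gK S = k := by
  obtain ⟨φ', h1', h2'⟩ := piFun_spec gK S
  exact RR_unique gK hg h1' h2' h1 h2

/-- the projection as a homomorphism -/
noncomputable def piHom (hg : Function.Injective gK) : ↥(RR gK) →* K where
  toFun := piFun gK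
  map_one' := piFun_eq gK hg 1 1 1 (by rw [map_one, map_one])
    (fun m => by rw [Subgroup.coe_one, one_mul, mul_one]; rfl)
  map_mul' S S' := by
    obtain ⟨φ, h1, h2⟩ := piFun_spec gK S
    obtain ⟨φ', h1', h2'⟩ := piFun_spec gK S'
    apply piFun_eq gK hg (S * S') _ (φ * φ')
    · rw [map_mul, map_mul, h1, h1']
    · intro m
      rw [Subgroup.coe_mul, mul_assoc, h2', ← mul_assoc, h2, mul_assoc]
      rfl

theorem piHom_surjective (hg : Function.Injective gK) : Function.Surjective (piHom gK hg) := by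
  intro k
  obtain ⟨φ, hφ⟩ := theta_surjective (isUnit_Aplus n) (gK k)
  obtain ⟨S, hS⟩ := exists_inter φ
  exact ⟨⟨S, k, φ, hφ, hS⟩, piFun_eq gK hg _ k φ hφ hS⟩

theorem TU_conj (m m' : M n) : TU n m * TU n m' = TU n (MulAut.conj m m') * TU n m := by
  rw [← map_mul, ← map_mul, MulAut.conj_apply]
  congr 1
  group

theorem th_conj (m : M n) : th n (MulAut.conj m) = 1 :=
  (theta_eq_one_iff (isUnit_Aplus n) _).2 (fun v => conj_gfun m v)

/-- the embedding of the model group -/
def psi : M n →* ↥(RR gK) where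
  toFun m := ⟨TU n m, 1, MulAut.conj m, by rw [th_conj, map_one], TU_conj m⟩
  map_one' := Subtype.ext (map_one _)
  map_mul' m m' := Subtype.ext (map_mul _ _ _)

theorem psi_coe (m : M n) : ((psi gK m : ↥(RR gK)) : GLW n) = TU n m := rfl

theorem psi_injective : Function.Injective (psi gK) := by
  intro m m' h
  apply TU_injective
  rw [← psi_coe gK, ← psi_coe gK, h]

theorem psi_mem_ker (hg : Function.Injective gK) (m : M n) : psi gK m ∈ (piHom gK hg).ker := by
  rw [MonoidHom.mem_ker]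
  exact piFun_eq gK hg _ 1 (MulAut.conj m) (by rw [th_conj, map_one]) (TU_conj m)

theorem TU_zc_one : ((TU n (zc (Aplus n) 1) : GLW n) : Module.End (ZMod 3) (W n)) = -1 := by
  rw [TU_coe]
  apply LinearMap.ext
  intro f
  rw [T_zc, sg_one]
  simp

theorem mem_range_of_ker (hg : Function.Injective gK) (S : ↥(RR gK))
    (hS : piHom gK hg S = 1) : ∃ m : M n, psi gK m = S := by
  obtain ⟨φ, h1, h2⟩ := piFun_spec gK S
  have hk : piFun gK S = 1 := hS
  rw [hk, map_one] at h1
  have hin : φ ∈ Cfsg.Inn (M n) := by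
    rw [inn_eq_ker (isUnit_Aplus n)]
    exact h1
  obtain ⟨m₀, rfl⟩ := hin
  have hC : ∀ m : M n, ((TU n m₀)⁻¹ * (S : GLW n)) * TU n m = TU n m * ((TU n m₀)⁻¹ * (S : GLW n)) := by
    intro m
    have h3 := h2 m
    have h4 : (MulAut.conj m₀ : MulAut (M n)) m = m₀ * m * m₀⁻¹ := MulAut.conj_apply m₀ m
    rw [mul_assoc, h3]
    change (TU n m₀)⁻¹ * (TU n ((MulAut.conj m₀ : MulAut (M n)) m) * (S : GLW n)) = _
    rw [h4, map_mul, map_mul, map_inv]
    group
  have hC' : ∀ m : M n, (((TU n m₀)⁻¹ * (S : GLW n) : GLW n) : Module.End (ZMod 3) (W n)) * T m =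
      T m * (((TU n m₀)⁻¹ * (S : GLW n) : GLW n) : Module.End (ZMod 3) (W n)) := by
    intro m
    have := congrArg Units.val (hC m)
    rwa [Units.val_mul, Units.val_mul, TU_coe] at this
  obtain ⟨c, hc⟩ := commutant _ hC'
  have hc0 : c ≠ 0 := by
    rintro rfl
    rw [zero_smul] at hc
    have h5 : ((((TU n m₀)⁻¹ * (S : GLW n))⁻¹ * ((TU n m₀)⁻¹ * (S : GLW n)) : GLW n) :
        Module.End (ZMod 3) (W n)) = 1 := by rw [inv_mul_cancel]; rfl
    rw [Units.val_mul, hc, mul_zero] at h5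
    have h6 := congrFun (congrArg (fun L => L (Pi.single (0 : I n) (1 : ZMod 3))) h5) 0
    simp at h6
  have hc12 : c = 1 ∨ c = -1 := by
    have key : ∀ c : ZMod 3, c ≠ 0 → c = 1 ∨ c = -1 := by decide
    exact key c hc0
  rcases hc12 with rfl | rfl
  · refine ⟨m₀, Subtype.ext ?_⟩
    rw [psi_coe]
    have h7 : (TU n m₀)⁻¹ * (S : GLW n) = 1 := by
      apply Units.ext
      rw [hc, one_smul]; rfl
    rw [inv_mul_eq_one] at h7
    exact h7
  · refine ⟨m₀ * zc (Aplus n) 1, Subtype.ext ?_⟩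
    rw [psi_coe, map_mul]
    have h7 : (TU n m₀)⁻¹ * (S : GLW n) = TU n (zc (Aplus n) 1) := by
      apply Units.ext
      rw [hc, TU_zc_one]
      exact neg_one_smul (ZMod 3) (1 : Module.End (ZMod 3) (W n))
    rw [← h7, mul_inv_cancel_left]

/-- the model group is the kernel -/
noncomputable def psiEquiv (hg : Function.Injective gK) : M n ≃* ↥(piHom gK hg).ker :=
  MulEquiv.ofBijective ((psi gK).codRestrict (piHom gK hg).ker (psi_mem_ker gK hg))
    ⟨fun m m' h => psi_injective gK (congrArg Subtype.val h), fun ⟨S, hS⟩ => by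
      obtain ⟨m, hm⟩ := mem_range_of_ker gK hg S hS
      exact ⟨m, Subtype.ext hm⟩⟩

theorem psiEquiv_coe (hg : Function.Injective gK) (m : M n) :
    (((psiEquiv gK hg m : ↥(piHom gK hg).ker) : ↥(RR gK)) : GLW n) = TU n m := rfl

theorem aut_v (φ : MulAut (M n)) (m : M n) :
    (φ m).v = (((th n φ : ↥(Iso n)) : GL (Fin n ⊕ Fin n) (ZMod 2)) : Matrix _ _ (ZMod 2)) *ᵥ m.v := by
  have h1 : (φ m).v = gfun φ m.v := by
    rw [phi_apply (isUnit_Aplus n) φ m]
  rw [h1]
  exact (glHom_mulVec (isUnit_Aplus n) φ m.v).symm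

theorem center_iff (m : M n) : (∀ x : M n, x * m = m * x) ↔ m.v = 0 := by
  constructor
  · intro h
    rcases (es (isUnit_Aplus n)).cent m h with h1 | h1
    · rw [h1]; rfl
    · rw [h1]; rfl
  · intro h x
    have h1 : m = zc (Aplus n) m.c := Mod.ext h rfl
    rw [h1]
    rcases zc_cases (A := Aplus n) m.c with h2 | h2
    · rw [h2, mul_one, one_mul]
    · rw [h2]
      exact (ctx (Aplus n)).cen x

theorem sq_iff (m : M n) : m * m = 1 ↔ bl (Aplus n) m.v m.v = 0 := by
  rw [sq_eq]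
  constructor
  · intro h
    have := congrArg Mod.c h
    simpa using this
  · intro h
    rw [h]; rfl

theorem main_ext (hn1 : 1 ≤ n) (hg : Function.Injective gK) :
    ∃ (R : Type) (_ : Group R) (_ : Finite R) (Q : Subgroup R) (hN : Q.Normal) (e : R ⧸ Q ≃* K)
      (χ : ↥Q →* Multiplicative (Fin n ⊕ Fin n → ZMod 2)),
      Cfsg.IsExtraspecial 2 ↥Q ∧ Nat.card ↥Q = 2 ^ (2 * n + 1) ∧ Function.Surjective χ ∧
      χ.ker = Subgroup.center ↥Q ∧
      (∀ (r : R) (a : ↥Q), Multiplicative.toAdd (χ ⟨r * a * r⁻¹, hN.conj_mem (a : R) a.2 r⟩) =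
        (((gK (e (r : R ⧸ Q)) : ↥(Iso n)) : GL (Fin n ⊕ Fin n) (ZMod 2)) : Matrix _ _ (ZMod 2)) *ᵥ
          Multiplicative.toAdd (χ a)) ∧
      ∀ a : ↥Q, a * a = 1 ↔ bl (Aplus n) (Multiplicative.toAdd (χ a)) (Multiplicative.toAdd (χ a)) = 0 := by
  have : Nonempty (Fin n ⊕ Fin n) := ⟨Sum.inl ⟨0, by omega⟩⟩
  let ψ := psiEquiv gK hg
  let χ : ↥(piHom gK hg).ker →* Multiplicative (Fin n ⊕ Fin n → ZMod 2) :=
    { toFun := fun a => Multiplicative.ofAdd (ψ.symm a).v
      map_one' := by rw [map_one]; rfl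
      map_mul' := fun a b => by rw [map_mul]; rfl }
  have hχ : ∀ a, Multiplicative.toAdd (χ a) = (ψ.symm a).v := fun a => rfl
  refine ⟨↥(RR gK), inferInstance, inferInstance, (piHom gK hg).ker, inferInstance,
    QuotientGroup.quotientKerEquivOfSurjective (piHom gK hg) (piHom_surjective gK hg), χ,
    ?_, ?_, ?_, ?_, ?_, ?_⟩
  · exact Cfsg.Agent.Lib.Helper7.isExtraspecial_of_mulEquiv ψ (Mod.extraspecial (isUnit_Aplus n))
  · rw [← Nat.card_congr ψ.toEquiv, card_eq, Fintype.card_sum, Fintype.card_fin]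
    congr 1; omega
  · intro v
    refine ⟨ψ (lift (Aplus n) (Multiplicative.toAdd v)), ?_⟩
    change Multiplicative.ofAdd (ψ.symm (ψ (lift (Aplus n) (Multiplicative.toAdd v)))).v = v
    rw [MulEquiv.symm_apply_apply]; rfl
  · ext a
    rw [MonoidHom.mem_ker, Subgroup.mem_center_iff]
    have h1 : χ a = 1 ↔ (ψ.symm a).v = 0 := Iff.rfl
    rw [h1, ← center_iff]
    constructor
    · intro h b
      apply ψ.symm.injective
      rw [map_mul, map_mul]
      exact h _
    · intro h x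
      have := h (ψ x)
      have h2 := congrArg ψ.symm this
      rwa [map_mul, map_mul, MulEquiv.symm_apply_apply] at h2
  · intro r a
    obtain ⟨φ, h1, h2⟩ := piFun_spec gK r
    have he : QuotientGroup.quotientKerEquivOfSurjective (piHom gK hg) (piHom_surjective gK hg)
        (r : ↥(RR gK) ⧸ (piHom gK hg).ker) = piFun gK r := rfl
    rw [he, ← h1, hχ, hχ, ← aut_v]
    congr 1
    apply ψ.injective
    rw [MulEquiv.apply_symm_apply]
    apply Subtype.ext
    apply Subtype.ext
    have h3 : (((ψ (φ (ψ.symm a)) : ↥(piHom gK hg).ker) : ↥(RR gK)) : GLW n) = TU n (φ (ψ.symm a)) := rfl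
    have h4 : (((ψ (ψ.symm a) : ↥(piHom gK hg).ker) : ↥(RR gK)) : GLW n) = TU n (ψ.symm a) := rfl
    rw [MulEquiv.apply_symm_apply] at h4
    rw [h3]
    change (r : GLW n) * ((a : ↥(RR gK)) : GLW n) * ((r : GLW n))⁻¹ = _
    rw [h4, h2, mul_inv_cancel_right]
  · intro a
    rw [hχ, ← sq_iff]
    constructor
    · intro h
      rw [← map_mul, h, map_one]
    · intro h
      apply ψ.symm.injective
      rw [map_mul, h, map_one]

end Cfsg.Agent.Lib.Helper5.ESOut.Spin
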